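import Mathlib
import Groth.Prelude.Def_LCI2
import Groth.Prelude.Def_ProCons
import Groth.Agent.Lib.Helper7.AmpleDesc.Main
import Groth.Agent.Lib.Helper7.ConsMor.Locus
import Groth.Agent.Lib.Helper7.ConsMor.Cons
import Groth.Agent.Lib.Helper7.StalkLim.Spread
import Groth.Agent.Lib.Helper7.LimAmple.Rel

set_option linter.style.haveILetI false
set_option linter.unusedVariables false
set_option linter.unusedSectionVars false
set_option autoImplicit false
set_option backward.isDefEq.respectTransparency.types false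
set_option backward.isDefEq.respectTransparency false
set_option synthInstance.maxHeartbeats 400000
set_option maxHeartbeats 1600000

universe u

/-! helper7: the relatively ample locus of an invertible module in a family of morphisms of finite presentation is ind-constructible: base change and fpqc descent of relative ampleness along cartesian squares, spreading out from the generic fibre, Noetherian models with an invertible module -/

open CategoryTheory CategoryTheory.Limits AlgebraicGeometry Opposite TopologicalSpace Topology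

namespace Groth.Agent.Helper7.AmpleCons

open Groth.Agent.Helper1 Groth.Agent.Helper7.ConsMod Groth.Agent.Helper7.LimBC
  Groth.Agent.Helper7.GenStage Groth.Agent.Helper7.LimStage Groth.Agent.Helper7.ConsPair
  Groth.Agent.Helper7.StalkLim Groth.Agent.Helper7.LimDesc Groth.Agent.Helper7.ProConsLib
  Groth.Agent.Helper7

section BaseChange

variable {X Y X' Y' : Scheme.{u}} {f : X ⟶ Y} {f' : X' ⟶ Y'} {qX : X' ⟶ X} {qY : Y' ⟶ Y}

/-- relative ampleness is stable under base change along any cartesian square. -/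
theorem isRelAmple_of_isPullback (hsq : IsPullback qX f' f qY) (L : X.Modules)
    (h : RelAmple.IsRelAmple f L) :
    RelAmple.IsRelAmple f' ((Scheme.Modules.pullback qX).obj L) := by
  haveI : QuasiCompact f := h.1
  have h1 := PullAmple.isRelAmple_baseChange f qY L h
  have h2 := PullAmple.isRelAmple_pullback_of_isQuasiAffine hsq.isoPullback.hom
    (pullback.snd f qY) (PullAmple.isQuasiAffine_of_isAffineHom _) h1
  rw [hsq.isoPullback_hom_snd] at h2
  exact LimAmple.isRelAmple_of_iso f' (pullbackFacIso hsq.isoPullback_hom_fst L).symm h2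

/-- relative ampleness descends along a cartesian square over an fpqc covering. -/
theorem isRelAmple_of_isPullback_of_fpqc (hsq : IsPullback qX f' f qY) [QuasiCompact qY]
    [Flat qY] [Surjective qY] (L : X.Modules) (hL : PicF.IsInvertible L)
    (h : RelAmple.IsRelAmple f' ((Scheme.Modules.pullback qX).obj L)) :
    RelAmple.IsRelAmple f L := by
  haveI : QuasiCompact f' := h.1
  apply AmpleDesc.isRelAmple_of_pullback f L hL qY
  have h2 := PullAmple.isRelAmple_pullback_of_isQuasiAffine hsq.isoPullback.inv f'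
    (PullAmple.isQuasiAffine_of_isAffineHom _) h
  rw [hsq.isoPullback_inv_snd] at h2
  exact LimAmple.isRelAmple_of_iso _ (pullbackFacIso hsq.isoPullback_inv_fst L).symm h2

/-- relative ampleness over the base change along a flat surjective quasi-compact morphism of
the base of the base. -/
theorem isRelAmple_iff_of_isPullback_of_fpqc {T T' : Scheme.{u}} {t : Y ⟶ T} {t' : Y' ⟶ T'}
    {r : T' ⟶ T} (hsq : IsPullback qX f' f qY) (hpb : IsPullback qY t' t r) [Flat r]
    [Surjective r] [QuasiCompact r] (L : X.Modules) (hL : PicF.IsInvertible L)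
    (L' : X'.Modules) (e : L' ≅ (Scheme.Modules.pullback qX).obj L) :
    RelAmple.IsRelAmple f' L' ↔ RelAmple.IsRelAmple f L := by
  haveI : Flat qY := MorphismProperty.of_isPullback (P := @Flat) hpb.flip inferInstance
  haveI : Surjective qY :=
    MorphismProperty.of_isPullback (P := @Surjective) hpb.flip inferInstance
  haveI : QuasiCompact qY :=
    MorphismProperty.of_isPullback (P := @QuasiCompact) hpb.flip inferInstance
  constructor
  · intro h
    exact isRelAmple_of_isPullback_of_fpqc hsq L hL (LimAmple.isRelAmple_of_iso _ e h)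
  · intro h
    exact LimAmple.isRelAmple_of_iso _ e.symm (isRelAmple_of_isPullback hsq L h)

end BaseChange

section Locus

/-- the set of points of the base over which the pullback of the module to the fibre is ample
relative to the morphism of fibres. -/
def locusRA {X Y S : Scheme.{u}} (f : X ⟶ Y) (g : Y ⟶ S) (L : X.Modules) : Set S :=
  {s | RelAmple.IsRelAmple (MoreMor.fiberMap f g s)
    ((Scheme.Modules.pullback ((f ≫ g).fiberι s)).obj L)}

theorem mem_locusRA_of_isRelAmple {X Y S : Scheme.{u}} (f : X ⟶ Y) (g : Y ⟶ S) (L : X.Modules)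
    (h : RelAmple.IsRelAmple f L) (s : S) : s ∈ locusRA f g L :=
  isRelAmple_of_isPullback (ConsMor.isPullback_fiberMap f g s) L h

/-- the relatively ample locus commutes with base change. -/
theorem locusRA_eq_preimage {X Y S X' Y' S' : Scheme.{u}} (f : X ⟶ Y) (g : Y ⟶ S) (π : S' ⟶ S)
    (f' : X' ⟶ Y') (g' : Y' ⟶ S') (pX : X' ⟶ X) (pY : Y' ⟶ Y) (hY : IsPullback pY g' g π)
    (hX : IsPullback pX f' f pY) (L : X.Modules) (hL : PicF.IsInvertible L) (L' : X'.Modules)
    (eL : L' ≅ (Scheme.Modules.pullback pX).obj L) :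
    locusRA f' g' L' = π ⁻¹' locusRA f g L := by
  ext s'
  have hsq := ConsMor.isPullback_fiberMap_of_isPullback hY hX s'
  have hpbY := isPullback_fiberToSpecResidueField_of_isPullback hY s'
  have hfpqc := ConsMor.fpqc_of_subsingleton (Spec.map (π.residueFieldMap s'))
  haveI : Surjective (Spec.map (π.residueFieldMap s')) := hfpqc.1.1
  haveI : Flat (Spec.map (π.residueFieldMap s')) := hfpqc.1.2
  haveI : QuasiCompact (Spec.map (π.residueFieldMap s')) := hfpqc.2
  have he : pullback.map _ _ _ _ pX (Spec.map (π.residueFieldMap s')) π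
      (hX.paste_vert hY).w.symm (by simp) ≫ (f ≫ g).fiberι (π s') =
        (f' ≫ g').fiberι s' ≫ pX := pullback.lift_fst _ _ _
  have eM := (Scheme.Modules.pullback ((f' ≫ g').fiberι s')).mapIso eL ≪≫
    pullbackSquareIso he.symm L
  exact isRelAmple_iff_of_isPullback_of_fpqc hsq hpbY _
    (PullGen.isInvertible_pullback _ hL) _ eM

end Locus

section Generic

/-- the residue map at the generic point of an integral scheme is an isomorphism. -/
theorem isIso_specMap_residue_genericPoint (S : Scheme.{u}) [IsIntegral S] :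
    IsIso (Spec.map (S.residue (genericPoint S))) := by
  have hF : IsField (S.presheaf.stalk (genericPoint S)) :=
    isField_stalk_of_closure_mem_irreducibleComponents S _
      (by simp [irreducibleComponents_eq_singleton])
  rw [isIso_SpecMap_iff]
  refine ⟨?_, S.residue_surjective _⟩
  letI := hF.toField
  exact RingHom.injective _

/-- if the module is relatively ample on the generic fibre then it is relatively ample on the
fibres over a nonempty open subset. -/
theorem exists_open_of_generic {X Y S : Scheme.{u}} [IsIntegral S] (f : X ⟶ Y) (g : Y ⟶ S)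
    [QuasiCompact g] [QuasiSeparated g] [QuasiCompact (f ≫ g)] [QuasiSeparated (f ≫ g)]
    (L : X.Modules) (hL : PicF.IsInvertible L) (hη : genericPoint S ∈ locusRA f g L) :
    ∃ U : S.Opens, genericPoint S ∈ U ∧ (U : Set S) ⊆ locusRA f g L := by
  obtain ⟨η, hηdef⟩ : ∃ η : S, η = genericPoint S := ⟨_, rfl⟩
  rw [← hηdef] at hη ⊢
  haveI hiso : IsIso (Spec.map (S.residue η)) := by
    rw [hηdef]
    exact isIso_specMap_residue_genericPoint S
  obtain ⟨ι, hι⟩ : ∃ ι : Spec (S.presheaf.stalk η) ⟶ S, ι = S.fromSpecStalk η := ⟨_, rfl⟩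
  have hρ : Spec.map (S.residue η) ≫ ι = S.fromSpecResidueField η := by rw [hι]; rfl
  -- the base change to the local scheme at the generic point
  obtain ⟨mY, hmY1, hmY⟩ := exists_isPullback_of_fac (IsPullback.of_hasPullback g ι)
    (Spec.map (S.residue η)) (S.fromSpecResidueField η) hρ
    (IsPullback.of_hasPullback g (S.fromSpecResidueField η))
  obtain ⟨mX, hmX1, hmX⟩ := exists_isPullback_of_fac (isPullback_bcHom f g ι) mY
    (g.fiberι η) hmY1 (ConsMor.isPullback_fiberMap f g η)
  have hZ : RelAmple.IsRelAmple (bcHom f g ι)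
      ((Scheme.Modules.pullback (pullback.fst (f ≫ g) ι)).obj L) :=
    (isRelAmple_iff_of_isPullback_of_fpqc hmX hmY _ (PullGen.isInvertible_pullback _ hL) _
      (pullbackFacIso hmX1 L)).mp hη
  -- spreading out
  obtain ⟨W⟩ := (inferInstance : Nonempty (Nb S η))
  obtain ⟨hc⟩ := isLimit_nbCone S η
  have hI : ∀ (i j : Nb S η) (f : i ⟶ j), IsAffineHom ((nbDiag S η).map f) :=
    fun _ _ f => inferInstance
  have hπι : (nbCone S η).π.app W ≫ W.1.ι = ι := by rw [hι]; exact nbCone_π_ι S η W
  obtain ⟨wι, hwι⟩ : ∃ wι : (nbDiag S η).obj W ⟶ S, wι = W.1.ι := ⟨_, rfl⟩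
  rw [← hwι] at hπι
  have hpbY := IsPullback.of_hasPullback g wι
  have hpbX := IsPullback.of_hasPullback f (pullback.fst g wι)
  haveI : QuasiCompact (pullback.snd f (pullback.fst g wι) ≫ pullback.snd g wι) :=
    MorphismProperty.of_isPullback (P := @QuasiCompact) (hpbX.paste_vert hpbY) inferInstance
  haveI : QuasiSeparated (pullback.snd f (pullback.fst g wι) ≫ pullback.snd g wι) :=
    MorphismProperty.of_isPullback (P := @QuasiSeparated) (hpbX.paste_vert hpbY) inferInstance
  obtain ⟨qY, hqY1, hY⟩ := exists_isPullback_of_fac hpbY ((nbCone S η).π.app W) ι hπι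
    (IsPullback.of_hasPullback g ι)
  obtain ⟨qX, hqX1, hX⟩ := exists_isPullback_of_fac hpbX qY (pullback.fst g ι) hqY1
    (isPullback_bcHom f g ι)
  have hL₀ := PullGen.isInvertible_pullback (pullback.fst f (pullback.fst g wι)) hL
  have hZ' : RelAmple.IsRelAmple (bcHom f g ι) ((Scheme.Modules.pullback qX).obj
      ((Scheme.Modules.pullback (pullback.fst f (pullback.fst g wι))).obj L)) :=
    LimAmple.isRelAmple_of_iso _ (pullbackFacIso hqX1 L) hZ
  obtain ⟨j, φ, Xj, Yj, fj, gj, pY, pX, hYj, hXj, hamp⟩ :=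
    LimAmple.exists_stage (nbDiag S η) (nbCone S η) hc W
      (pullback.snd f (pullback.fst g wι)) (pullback.snd g wι) _ hL₀ (bcHom f g ι)
      (pullback.snd g ι) qY qX hY hX hZ'
  refine ⟨j.1, j.2.2, ?_⟩
  have e : (nbDiag S η).map φ ≫ wι = j.1.ι := by
    rw [hwι]
    exact S.homOfLE_ι (Subtype.coe_le_coe.mpr (leOfHom φ))
  have hYS : IsPullback (pY ≫ pullback.fst g wι) gj g j.1.ι := by
    have h := hYj.paste_horiz hpbY
    rwa [e] at h
  have hXS : IsPullback (pX ≫ pullback.fst f (pullback.fst g wι)) fj f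
      (pY ≫ pullback.fst g wι) := hXj.paste_horiz hpbX
  have hloc := locusRA_eq_preimage f g j.1.ι fj gj _ _ hYS hXS L hL
    ((Scheme.Modules.pullback pX).obj
      ((Scheme.Modules.pullback (pullback.fst f (pullback.fst g wι))).obj L))
    (pullbackFacIso rfl L).symm
  intro s hs
  obtain ⟨s', rfl⟩ : s ∈ Set.range j.1.ι := by
    rw [Scheme.Opens.range_ι]
    exact hs
  have hmem := mem_locusRA_of_isRelAmple fj gj _ hamp s'
  rw [hloc] at hmem
  exact hmem

end Generic

section Noeth

/-- the relatively ample locus over a Noetherian affine base is ind-constructible. -/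
theorem isIndConstructible_locusRA_noeth (A : Type u) [CommRing A] [IsNoetherianRing A]
    {X Y : Scheme.{u}} (f : X ⟶ Y) (g : Y ⟶ Spec (CommRingCat.of A)) [LocallyOfFiniteType g]
    [QuasiCompact g] [LocallyOfFiniteType (f ≫ g)] [QuasiCompact (f ≫ g)] (L : X.Modules)
    (hL : PicF.IsInvertible L) : ProCons.IsIndConstructible (locusRA f g L) := by
  apply isIndConstructible_of_forall_prime
  intro x hx
  have hY := IsPullback.of_hasPullback g (primeIncl A x)
  have hX := IsPullback.of_hasPullback f (pullback.fst g (primeIncl A x))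
  obtain ⟨i1, i2, i3, i4⟩ := ConsMor.lft_comp_of_isPullback hY hX
  have hloc := locusRA_eq_preimage f g (primeIncl A x) _ _ _ _ hY hX L hL _ (Iso.refl _)
  rw [← hloc]
  haveI : IsLocallyNoetherian (pullback g (primeIncl A x)) :=
    LocallyOfFiniteType.isLocallyNoetherian (pullback.snd g (primeIncl A x))
  haveI : IsLocallyNoetherian (pullback f (pullback.fst g (primeIncl A x))) :=
    LocallyOfFiniteType.isLocallyNoetherian
      (pullback.snd f (pullback.fst g (primeIncl A x)) ≫ pullback.snd g (primeIncl A x))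
  obtain ⟨U, hU, hsub⟩ := exists_open_of_generic
    (pullback.snd f (pullback.fst g (primeIncl A x))) (pullback.snd g (primeIncl A x)) _
    (PullGen.isInvertible_pullback (pullback.fst f (pullback.fst g (primeIncl A x))) hL) (by
      rw [hloc, Set.mem_preimage, primeIncl_genericPoint]
      exact hx)
  exact ⟨genericPoint _, mem_interior.mpr ⟨U, hsub, U.2, hU⟩⟩

end Noeth

section Model

set_option backward.isDefEq.respectTransparency false in
/-- a morphism between schemes of finite presentation over an affine scheme together with an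
invertible module on the source comes by base change from such data over the spectrum of a
Noetherian ring. -/
theorem exists_noetherian_model_mor_inv (A : Type u) [CommRing A] {X Y : Scheme.{u}}
    (f : X ⟶ Y) (g : Y ⟶ Spec (CommRingCat.of A))
    [LocallyOfFinitePresentation g] [QuasiCompact g] [QuasiSeparated g]
    [LocallyOfFinitePresentation (f ≫ g)] [QuasiCompact (f ≫ g)] [QuasiSeparated (f ≫ g)]
    (L : X.Modules) (hL : PicF.IsInvertible L) :
    ∃ (A₀ : Type u) (_ : CommRing A₀) (_ : IsNoetherianRing A₀)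
      (π : Spec (CommRingCat.of A) ⟶ Spec (CommRingCat.of A₀)) (X₀ Y₀ : Scheme.{u})
      (f₀ : X₀ ⟶ Y₀) (g₀ : Y₀ ⟶ Spec (CommRingCat.of A₀))
      (qX : X ⟶ X₀) (qY : Y ⟶ Y₀) (L₀ : X₀.Modules), LocallyOfFiniteType g₀ ∧ QuasiCompact g₀ ∧
        LocallyOfFiniteType (f₀ ≫ g₀) ∧ QuasiCompact (f₀ ≫ g₀) ∧
        IsPullback qY g g₀ π ∧ IsPullback qX f f₀ qY ∧ PicF.IsInvertible L₀ ∧
        Nonempty (L ≅ (Scheme.Modules.pullback qX).obj L₀) := by
  obtain ⟨j₁, ⟨M₁⟩⟩ := desc_of_finitePresentation (FGSub.isLimit_specCone A).some (f ≫ g)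
  obtain ⟨j₂, ⟨M₂⟩⟩ := desc_of_finitePresentation (FGSub.isLimit_specCone A).some g
  obtain ⟨j, φ₁, φ₂, -⟩ := IsCofilteredOrEmpty.cone_objs j₁ j₂
  have : CompactSpace ↥(M₁.stage φ₁).Zj :=
    QuasiCompact.compactSpace_of_compactSpace (M₁.stage φ₁).zj
  have : QuasiSeparatedSpace ↥(M₁.stage φ₁).Zj :=
    quasiSeparatedSpace_of_quasiSeparated (M₁.stage φ₁).zj
  obtain ⟨j', φ, fj, sX, sY, h1, hY', hX'⟩ := ConsMor.exists_hom_model (FGSub.specDiag A)
    (FGSub.specCone A) (FGSub.isLimit_specCone A).some j (M₁.stage φ₁).zj (M₂.stage φ₂).zj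
    (M₁.stage φ₁).isPullback (M₂.stage φ₂).isPullback f rfl
  obtain ⟨g₁, hg₁⟩ : ∃ g₁ : pullback (M₂.stage φ₂).zj ((FGSub.specDiag A).map φ) ⟶
      (FGSub.specDiag A).obj j', g₁ = pullback.snd (M₂.stage φ₂).zj ((FGSub.specDiag A).map φ) :=
    ⟨_, rfl⟩
  rw [← hg₁] at h1 hY'
  haveI : LocallyOfFinitePresentation g₁ := by rw [hg₁]; infer_instance
  haveI : QuasiCompact g₁ := by rw [hg₁]; infer_instance
  haveI : QuasiSeparated g₁ := by rw [hg₁]; infer_instance
  haveI : LocallyOfFinitePresentation (fj ≫ g₁) := by rw [h1]; infer_instance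
  haveI : QuasiCompact (fj ≫ g₁) := by rw [h1]; infer_instance
  haveI : QuasiSeparated (fj ≫ g₁) := by rw [h1]; infer_instance
  have hc := (FGSub.isLimit_specCone A).some
  have hXa : IsPullback sX (f ≫ g) (fj ≫ g₁) ((FGSub.specCone A).π.app j') :=
    hX'.paste_vert hY'
  haveI : CompactSpace ↥(pullback (M₁.stage φ₁).zj ((FGSub.specDiag A).map φ)) :=
    QuasiCompact.compactSpace_of_compactSpace (fj ≫ g₁)
  haveI : QuasiSeparatedSpace ↥(pullback (M₁.stage φ₁).zj ((FGSub.specDiag A).map φ)) :=
    quasiSeparatedSpace_of_quasiSeparated (fj ≫ g₁)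
  haveI : L.IsQuasicoherent := Groth.Agent.Helper1.InvQc.isQuasicoherent_of_isInvertible L hL
  have hLfp : CohB1.IsFP L := isFP_of_isFinLocFreeOfRank L (isFinLocFreeOfRank_one hL)
  have hI : ∀ (i j : (FGSub.Idx A)ᵒᵖ) (f : i ⟶ j), IsAffineHom ((FGSub.specDiag A).map f) :=
    fun _ _ f => inferInstance
  obtain ⟨k, Gk, hGkqc, hGkfp, ⟨e⟩⟩ := exists_descend_bc (FGSub.specDiag A) (FGSub.specCone A)
    hc j' (fj ≫ g₁) hXa L hLfp
  haveI := hGkqc
  have hr1 : FlatMod.IsFinLocFreeOfRank 1 ((Scheme.Modules.pullback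
      (bcπ (D := FGSub.specDiag A) (c := FGSub.specCone A) (a := fj ≫ g₁) hXa k)).obj Gk) :=
    isFinLocFreeOfRank_of_iso e.symm (isFinLocFreeOfRank_one hL)
  haveI : ∀ (j k : Over j') (u : j ⟶ k),
      IsAffineHom ((bcDiagram (FGSub.specDiag A) j' (fj ≫ g₁)).map u) :=
    fun _ _ u => inferInstance
  obtain ⟨l, ψ, hl⟩ := (Groth.Agent.Lead.LimZ.isFinLocFreeOfRank_pullback_iff_eventually
    (bcDiagram (FGSub.specDiag A) j' (fj ≫ g₁))
    (bcCone (D := FGSub.specDiag A) (c := FGSub.specCone A) (a := fj ≫ g₁) hXa)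
    (isLimitBcCone hc hXa) k Gk hGkfp 1).1 hr1
  have hLl := isInvertible_of_rank_one hl
  have hN : IsNoetherianRing ↥l.left.unop.1 := by
    have : Algebra.FiniteType ℤ ↥l.left.unop.1 :=
      (Subalgebra.fg_iff_finiteType _).mp l.left.unop.2
    exact Algebra.FiniteType.isNoetherianRing ℤ _
  have hY₀ := isPullback_bcCone_π (D := FGSub.specDiag A) (c := FGSub.specCone A) (a := g₁) hY' l
  have hXl := isPullback_bcCone_π (D := FGSub.specDiag A) (c := FGSub.specCone A)
    (a := fj ≫ g₁) hXa l
  have hcomm := bcπ_bcMap (D := FGSub.specDiag A) (c := FGSub.specCone A) fj g₁ hY' hXa hX'.w l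
  have hX₀ : IsPullback (bcπ (D := FGSub.specDiag A) (c := FGSub.specCone A) (a := fj ≫ g₁) hXa l)
      f (bcMap fj g₁ l) (bcπ (D := FGSub.specDiag A) (c := FGSub.specCone A) (a := g₁) hY' l) := by
    refine IsPullback.of_bot (v₂₁ := g)
      (v₂₂ := pullback.snd g₁ ((FGSub.specDiag A).map l.hom))
      (h₃₁ := (FGSub.specCone A).π.app l.left) ?_ hcomm hY₀
    rw [bcMap_snd]
    exact hXl
  refine ⟨↥l.left.unop.1, inferInstance, hN, (FGSub.specCone A).π.app l.left,
    pullback (fj ≫ g₁) ((FGSub.specDiag A).map l.hom),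
    pullback g₁ ((FGSub.specDiag A).map l.hom), bcMap fj g₁ l,
    pullback.snd g₁ ((FGSub.specDiag A).map l.hom), _, _,
    (Scheme.Modules.pullback ((bcDiagram (FGSub.specDiag A) j' (fj ≫ g₁)).map ψ)).obj Gk,
    inferInstance, inferInstance, ?_, ?_, hY₀, hX₀, hLl, ⟨e.symm ≪≫ pullbackFacIso
      ((bcCone (D := FGSub.specDiag A) (c := FGSub.specCone A) (a := fj ≫ g₁) hXa).w ψ) Gk⟩⟩
  · rw [bcMap_snd]; infer_instance
  · rw [bcMap_snd]; infer_instance

end Model

section Main

/-- the relatively ample locus in a family of finite presentation is ind-constructible. -/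
theorem isIndConstructible_locusRA {X Y S : Scheme.{u}} (f : X ⟶ Y) (g : Y ⟶ S)
    [LocallyOfFinitePresentation g] [QuasiCompact g] [QuasiSeparated g]
    [LocallyOfFinitePresentation (f ≫ g)] [QuasiCompact (f ≫ g)] [QuasiSeparated (f ≫ g)]
    (L : X.Modules) (hL : PicF.IsInvertible L) :
    ProCons.IsIndConstructible (locusRA f g L) := by
  apply isIndConstructible_of_forall_affineOpen
  intro V hV
  have hY := IsPullback.of_hasPullback g hV.fromSpec
  have hX := IsPullback.of_hasPullback f (pullback.fst g hV.fromSpec)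
  obtain ⟨i1, i2, i3, i4, i5, i6⟩ := ConsMor.fp_comp_of_isPullback hY hX
  rw [← locusRA_eq_preimage f g hV.fromSpec _ _ _ _ hY hX L hL _ (Iso.refl _)]
  obtain ⟨A₀, _, _, π, X₀, Y₀, f₀, g₀, qX, qY, L₀, _, _, _, _, hY₀, hX₀, hL₀, ⟨e⟩⟩ :=
    exists_noetherian_model_mor_inv ↑Γ(S, V) (pullback.snd f (pullback.fst g hV.fromSpec))
      (pullback.snd g hV.fromSpec) _
      (PullGen.isInvertible_pullback (pullback.fst f (pullback.fst g hV.fromSpec)) hL)
  rw [locusRA_eq_preimage f₀ g₀ π _ _ qX qY hY₀ hX₀ L₀ hL₀ _ e]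
  exact isIndConstructible_preimage π (isIndConstructible_locusRA_noeth A₀ f₀ g₀ L₀ hL₀)

/-- the statement in the form of the milestone. -/
theorem isIndConstructible_setOf_fibre_isRelAmple {X Y S : Scheme.{u}} (f : X ⟶ Y) (g : Y ⟶ S)
    [LocallyOfFinitePresentation g] [QuasiCompact g] [QuasiSeparated g]
    [LocallyOfFinitePresentation (f ≫ g)] [QuasiCompact (f ≫ g)] [QuasiSeparated (f ≫ g)]
    (L : X.Modules) (hL : PicF.IsInvertible L) :
    ProCons.IsIndConstructible {s : S |
      RelAmple.IsRelAmple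
        (pullback.lift (pullback.fst (f ≫ g) (S.fromSpecResidueField s) ≫ f)
          (pullback.snd (f ≫ g) (S.fromSpecResidueField s))
          ((Category.assoc _ _ _).trans pullback.condition) :
        pullback (f ≫ g) (S.fromSpecResidueField s) ⟶ pullback g (S.fromSpecResidueField s))
        ((Scheme.Modules.pullback (pullback.fst (f ≫ g) (S.fromSpecResidueField s))).obj L)} :=
  isIndConstructible_locusRA f g L hL

end Main

end Groth.Agent.Helper7.AmpleCons
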