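import Mathlib
import Groth.Agent.Lib.Helper7.AmpleCons.Main
import Groth.Agent.Lib.Helper7.ProperDesc.Main

set_option linter.style.haveILetI false
set_option linter.unusedVariables false
set_option linter.unusedSectionVars false
set_option autoImplicit false
set_option backward.isDefEq.respectTransparency.types false
set_option backward.isDefEq.respectTransparency false
set_option synthInstance.maxHeartbeats 400000
set_option maxHeartbeats 1600000

universe u

/-! helper7: Noetherian models of proper morphisms of finite presentation with an invertible module: the model morphism can be taken proper (descent of properness to a stage over the finitely generated subrings) -/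

open CategoryTheory CategoryTheory.Limits AlgebraicGeometry Opposite TopologicalSpace Topology

namespace Groth.Agent.Helper7.AmpleCons

open Groth.Agent.Helper1 Groth.Agent.Helper7.ConsMod Groth.Agent.Helper7.LimBC
  Groth.Agent.Helper7.GenStage Groth.Agent.Helper7.LimStage Groth.Agent.Helper7.ConsPair
  Groth.Agent.Helper7.StalkLim Groth.Agent.Helper7.LimDesc Groth.Agent.Helper7.ProConsLib
  Groth.Agent.Helper7

section Aux

/-- the spectra of the finitely generated subrings are Noetherian. -/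
theorem isNoetherian_specDiag_obj (A : Type u) [CommRing A] (k : (FGSub.Idx A)ᵒᵖ) :
    IsNoetherian ((FGSub.specDiag A).obj k) := by
  haveI : Algebra.FiniteType ℤ ↥k.unop.1 := (Subalgebra.fg_iff_finiteType _).mp k.unop.2
  haveI : IsNoetherianRing ↥k.unop.1 := Algebra.FiniteType.isNoetherianRing ℤ _
  show IsNoetherian (Spec (CommRingCat.of ↥k.unop.1))
  infer_instance

/-- a scheme of finite type over a Noetherian scheme is Noetherian. -/
theorem isNoetherian_of_finiteType {Y T : Scheme.{u}} (q : Y ⟶ T) [LocallyOfFiniteType q]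
    [QuasiCompact q] [IsNoetherian T] : IsNoetherian Y := by
  haveI : IsLocallyNoetherian Y := LocallyOfFiniteType.isLocallyNoetherian q
  haveI : CompactSpace Y := QuasiCompact.compactSpace_of_compactSpace q
  exact {}

/-- passing to a later stage: the cartesian squares to the limit. -/
theorem exists_shift {I : Type u} [Category.{u} I] (D : I ⥤ Scheme.{u}) (c : Cone D) {j' k' : I}
    (χ : k' ⟶ j') {X Y Xj Yj : Scheme.{u}} {f : X ⟶ Y} {g : Y ⟶ c.pt} {fj : Xj ⟶ Yj}
    {g₁ : Yj ⟶ D.obj j'} {sX : X ⟶ Xj} {sY : Y ⟶ Yj}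
    (hY' : IsPullback sY g g₁ (c.π.app j')) (hX' : IsPullback sX f fj sY) :
    ∃ (sX' : X ⟶ pullback (fj ≫ g₁) (D.map χ)) (sY' : Y ⟶ pullback g₁ (D.map χ)),
      IsPullback sY' g (pullback.snd g₁ (D.map χ)) (c.π.app k') ∧
      IsPullback sX' f (bcHom fj g₁ (D.map χ)) sY' := by
  have w1 : sY ≫ g₁ = (g ≫ c.π.app k') ≫ D.map χ := by
    rw [Category.assoc, c.w χ, hY'.w]
  have w2 : sX ≫ (fj ≫ g₁) = (f ≫ g ≫ c.π.app k') ≫ D.map χ := by
    calc sX ≫ (fj ≫ g₁) = (sX ≫ fj) ≫ g₁ := (Category.assoc _ _ _).symm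
      _ = (f ≫ sY) ≫ g₁ := by rw [hX'.w]
      _ = f ≫ (sY ≫ g₁) := Category.assoc _ _ _
      _ = f ≫ (g ≫ c.π.app j') := by rw [hY'.w]
      _ = f ≫ (g ≫ (c.π.app k' ≫ D.map χ)) := by rw [c.w χ]
      _ = (f ≫ g ≫ c.π.app k') ≫ D.map χ := by simp only [Category.assoc]
  refine ⟨pullback.lift sX (f ≫ g ≫ c.π.app k') w2, pullback.lift sY (g ≫ c.π.app k') w1,
    ?_, ?_⟩
  · refine IsPullback.of_right (h₁₂ := pullback.fst g₁ (D.map χ)) (h₂₂ := D.map χ) (v₁₃ := g₁)
      ?_ (pullback.lift_snd _ _ _) (IsPullback.of_hasPullback g₁ (D.map χ))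
    rw [pullback.lift_fst, c.w χ]
    exact hY'
  · refine IsPullback.of_right (h₁₂ := pullback.fst (fj ≫ g₁) (D.map χ))
      (h₂₂ := pullback.fst g₁ (D.map χ)) (v₁₃ := fj) ?_ ?_ (isPullback_bcHom fj g₁ (D.map χ))
    · rw [pullback.lift_fst, pullback.lift_fst]
      exact hX'
    · apply pullback.hom_ext
      · rw [Category.assoc, bcHom_fst, pullback.lift_fst_assoc, Category.assoc,
          pullback.lift_fst]
        exact hX'.w
      · rw [Category.assoc, bcHom_snd, pullback.lift_snd, Category.assoc, pullback.lift_snd]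

end Aux

section Model

set_option backward.isDefEq.respectTransparency false in
/-- descent of an invertible module to a later stage of a model over a finitely generated
subring. -/
theorem exists_stage_inv (A : Type u) [CommRing A] {X Y Xj Yj : Scheme.{u}}
    (f : X ⟶ Y) (g : Y ⟶ Spec (CommRingCat.of A)) {j' : (FGSub.Idx A)ᵒᵖ} (fj : Xj ⟶ Yj)
    (g₁ : Yj ⟶ (FGSub.specDiag A).obj j')
    [LocallyOfFinitePresentation g₁] [QuasiCompact g₁] [QuasiSeparated g₁]
    [LocallyOfFinitePresentation (fj ≫ g₁)] [QuasiCompact (fj ≫ g₁)] [QuasiSeparated (fj ≫ g₁)]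
    {sX : X ⟶ Xj} {sY : Y ⟶ Yj} (hY' : IsPullback sY g g₁ ((FGSub.specCone A).π.app j'))
    (hX' : IsPullback sX f fj sY) (L : X.Modules) (hL : PicF.IsInvertible L) :
    ∃ (l : Over j') (L₀ : (pullback (fj ≫ g₁) ((FGSub.specDiag A).map l.hom)).Modules)
      (qX : X ⟶ pullback (fj ≫ g₁) ((FGSub.specDiag A).map l.hom))
      (qY : Y ⟶ pullback g₁ ((FGSub.specDiag A).map l.hom)),
      IsPullback qY g (pullback.snd g₁ ((FGSub.specDiag A).map l.hom))
        ((FGSub.specCone A).π.app l.left) ∧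
      IsPullback qX f (bcMap fj g₁ l) qY ∧ PicF.IsInvertible L₀ ∧
      Nonempty (L ≅ (Scheme.Modules.pullback qX).obj L₀) := by
  have hc := (FGSub.isLimit_specCone A).some
  have hXa : IsPullback sX (f ≫ g) (fj ≫ g₁) ((FGSub.specCone A).π.app j') :=
    hX'.paste_vert hY'
  haveI : CompactSpace ↥Xj := QuasiCompact.compactSpace_of_compactSpace (fj ≫ g₁)
  haveI : QuasiSeparatedSpace ↥Xj := quasiSeparatedSpace_of_quasiSeparated (fj ≫ g₁)
  haveI : L.IsQuasicoherent := Groth.Agent.Helper1.InvQc.isQuasicoherent_of_isInvertible L hL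
  have hLfp : CohB1.IsFP L := isFP_of_isFinLocFreeOfRank L (isFinLocFreeOfRank_one hL)
  have hI : ∀ (i j : (FGSub.Idx A)ᵒᵖ) (f : i ⟶ j), IsAffineHom ((FGSub.specDiag A).map f) :=
    fun _ _ f => inferInstance
  obtain ⟨k, Gk, hGkqc, hGkfp, ⟨e⟩⟩ := exists_descend_bc (FGSub.specDiag A) (FGSub.specCone A)
    hc j' (fj ≫ g₁) hXa L hLfp
  haveI := hGkqc
  have hr1 : FlatMod.IsFinLocFreeOfRank 1 ((Scheme.Modules.pullback
      (bcπ (D := FGSub.specDiag A) (c := FGSub.specCone A) (a := fj ≫ g₁) hXa k)).obj Gk) :=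
    isFinLocFreeOfRank_of_iso e.symm (isFinLocFreeOfRank_one hL)
  haveI : ∀ (j k : Over j') (u : j ⟶ k),
      IsAffineHom ((bcDiagram (FGSub.specDiag A) j' (fj ≫ g₁)).map u) :=
    fun _ _ u => inferInstance
  obtain ⟨l, ψ, hl⟩ := (Groth.Agent.Lead.LimZ.isFinLocFreeOfRank_pullback_iff_eventually
    (bcDiagram (FGSub.specDiag A) j' (fj ≫ g₁))
    (bcCone (D := FGSub.specDiag A) (c := FGSub.specCone A) (a := fj ≫ g₁) hXa)
    (isLimitBcCone hc hXa) k Gk hGkfp 1).1 hr1
  have hLl := isInvertible_of_rank_one hl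
  have hY₀ := isPullback_bcCone_π (D := FGSub.specDiag A) (c := FGSub.specCone A) (a := g₁) hY' l
  have hXl := isPullback_bcCone_π (D := FGSub.specDiag A) (c := FGSub.specCone A)
    (a := fj ≫ g₁) hXa l
  have hcomm := bcπ_bcMap (D := FGSub.specDiag A) (c := FGSub.specCone A) fj g₁ hY' hXa hX'.w l
  have hX₀ : IsPullback (bcπ (D := FGSub.specDiag A) (c := FGSub.specCone A) (a := fj ≫ g₁) hXa l)
      f (bcMap fj g₁ l) (bcπ (D := FGSub.specDiag A) (c := FGSub.specCone A) (a := g₁) hY' l) := by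
    refine IsPullback.of_bot (v₂₁ := g)
      (v₂₂ := pullback.snd g₁ ((FGSub.specDiag A).map l.hom))
      (h₃₁ := (FGSub.specCone A).π.app l.left) ?_ hcomm hY₀
    rw [bcMap_snd]
    exact hXl
  exact ⟨l, (Scheme.Modules.pullback ((bcDiagram (FGSub.specDiag A) j' (fj ≫ g₁)).map ψ)).obj Gk,
    _, _, hY₀, hX₀, hLl, ⟨e.symm ≪≫ pullbackFacIso
      ((bcCone (D := FGSub.specDiag A) (c := FGSub.specCone A) (a := fj ≫ g₁) hXa).w ψ) Gk⟩⟩

set_option backward.isDefEq.respectTransparency false in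
/-- **Noetherian models of proper morphisms**: a proper morphism between schemes of finite
presentation over an affine scheme together with an invertible module on the source comes by base
change from such data over the spectrum of a Noetherian ring, with a proper morphism. -/
theorem exists_noetherian_model_proper_inv (A : Type u) [CommRing A] {X Y : Scheme.{u}}
    (f : X ⟶ Y) (g : Y ⟶ Spec (CommRingCat.of A))
    [LocallyOfFinitePresentation g] [QuasiCompact g] [QuasiSeparated g]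
    [LocallyOfFinitePresentation (f ≫ g)] [QuasiCompact (f ≫ g)] [QuasiSeparated (f ≫ g)]
    [IsProper f] (L : X.Modules) (hL : PicF.IsInvertible L) :
    ∃ (A₀ : Type u) (_ : CommRing A₀) (_ : IsNoetherianRing A₀)
      (π : Spec (CommRingCat.of A) ⟶ Spec (CommRingCat.of A₀)) (X₀ Y₀ : Scheme.{u})
      (f₀ : X₀ ⟶ Y₀) (g₀ : Y₀ ⟶ Spec (CommRingCat.of A₀))
      (qX : X ⟶ X₀) (qY : Y ⟶ Y₀) (L₀ : X₀.Modules), LocallyOfFiniteType g₀ ∧ QuasiCompact g₀ ∧
        IsProper f₀ ∧ IsPullback qY g g₀ π ∧ IsPullback qX f f₀ qY ∧ PicF.IsInvertible L₀ ∧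
        Nonempty (L ≅ (Scheme.Modules.pullback qX).obj L₀) := by
  obtain ⟨j₁, ⟨M₁⟩⟩ := desc_of_finitePresentation (FGSub.isLimit_specCone A).some (f ≫ g)
  obtain ⟨j₂, ⟨M₂⟩⟩ := desc_of_finitePresentation (FGSub.isLimit_specCone A).some g
  obtain ⟨j, φ₁, φ₂, -⟩ := IsCofilteredOrEmpty.cone_objs j₁ j₂
  have : CompactSpace ↥(M₁.stage φ₁).Zj :=
    QuasiCompact.compactSpace_of_compactSpace (M₁.stage φ₁).zj
  have : QuasiSeparatedSpace ↥(M₁.stage φ₁).Zj :=
    quasiSeparatedSpace_of_quasiSeparated (M₁.stage φ₁).zj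
  obtain ⟨j', φ, fj, sX, sY, h1, hY', hX'⟩ := ConsMor.exists_hom_model (FGSub.specDiag A)
    (FGSub.specCone A) (FGSub.isLimit_specCone A).some j (M₁.stage φ₁).zj (M₂.stage φ₂).zj
    (M₁.stage φ₁).isPullback (M₂.stage φ₂).isPullback f rfl
  obtain ⟨g₁, hg₁⟩ : ∃ g₁ : pullback (M₂.stage φ₂).zj ((FGSub.specDiag A).map φ) ⟶
      (FGSub.specDiag A).obj j', g₁ = pullback.snd (M₂.stage φ₂).zj ((FGSub.specDiag A).map φ) :=
    ⟨_, rfl⟩
  rw [← hg₁] at h1 hY'
  haveI : LocallyOfFinitePresentation g₁ := by rw [hg₁]; infer_instance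
  haveI : QuasiCompact g₁ := by rw [hg₁]; infer_instance
  haveI : QuasiSeparated g₁ := by rw [hg₁]; infer_instance
  haveI : LocallyOfFinitePresentation (fj ≫ g₁) := by rw [h1]; infer_instance
  haveI : QuasiCompact (fj ≫ g₁) := by rw [h1]; infer_instance
  haveI : QuasiSeparated (fj ≫ g₁) := by rw [h1]; infer_instance
  have hc := (FGSub.isLimit_specCone A).some
  -- a stage where the morphism is proper
  haveI : CompactSpace ↥(pullback (M₂.stage φ₂).zj ((FGSub.specDiag A).map φ)) :=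
    QuasiCompact.compactSpace_of_compactSpace g₁
  haveI : QuasiCompact fj := QuasiCompact.of_comp fj g₁
  haveI : QuasiSeparated fj := QuasiSeparated.of_comp fj g₁
  haveI : LocallyOfFiniteType fj := locallyOfFiniteType_of_comp fj g₁
  have hprop : IsProper (bcHom fj g₁ ((FGSub.specCone A).π.app j')) :=
    bcHom_of_isPullback fj g₁ @IsProper _ hY' hX' inferInstance
  obtain ⟨k', χ, hk'⟩ := ProperDesc.exists_stage_isProper (FGSub.specDiag A) (FGSub.specCone A)
    hc fj g₁ (fun k ψ => by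
      haveI := isNoetherian_specDiag_obj A k
      exact isNoetherian_of_finiteType (pullback.snd g₁ ((FGSub.specDiag A).map ψ))) hprop
  obtain ⟨sX', sY', hY'', hX''⟩ := exists_shift (FGSub.specDiag A) (FGSub.specCone A) χ hY' hX'
  obtain ⟨f₂, hf₂⟩ : ∃ f₂ : pullback (fj ≫ g₁) ((FGSub.specDiag A).map χ) ⟶
      pullback g₁ ((FGSub.specDiag A).map χ), f₂ = bcHom fj g₁ ((FGSub.specDiag A).map χ) :=
    ⟨_, rfl⟩
  obtain ⟨g₂, hg₂⟩ : ∃ g₂ : pullback g₁ ((FGSub.specDiag A).map χ) ⟶ (FGSub.specDiag A).obj k',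
      g₂ = pullback.snd g₁ ((FGSub.specDiag A).map χ) := ⟨_, rfl⟩
  rw [← hf₂] at hX'' hk'
  rw [← hg₂] at hY''
  have h2 : f₂ ≫ g₂ = pullback.snd (fj ≫ g₁) ((FGSub.specDiag A).map χ) := by
    rw [hf₂, hg₂]
    exact bcHom_snd fj g₁ _
  haveI : LocallyOfFinitePresentation g₂ := by rw [hg₂]; infer_instance
  haveI : QuasiCompact g₂ := by rw [hg₂]; infer_instance
  haveI : QuasiSeparated g₂ := by rw [hg₂]; infer_instance
  haveI : LocallyOfFinitePresentation (f₂ ≫ g₂) := by rw [h2]; infer_instance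
  haveI : QuasiCompact (f₂ ≫ g₂) := by rw [h2]; infer_instance
  haveI : QuasiSeparated (f₂ ≫ g₂) := by rw [h2]; infer_instance
  obtain ⟨l, L₀, qX, qY, hqY, hqX, hL₀, ⟨e⟩⟩ := exists_stage_inv A f g f₂ g₂ hY'' hX'' L hL
  have hN : IsNoetherianRing ↥l.left.unop.1 := by
    have : Algebra.FiniteType ℤ ↥l.left.unop.1 :=
      (Subalgebra.fg_iff_finiteType _).mp l.left.unop.2
    exact Algebra.FiniteType.isNoetherianRing ℤ _
  have hfl : IsProper (bcMap f₂ g₂ l) := by
    have e2 : bcMap f₂ g₂ l = bcHom f₂ g₂ ((FGSub.specDiag A).map l.hom) := by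
      apply pullback.hom_ext
      · exact (bcMap_bcFst f₂ g₂ l).trans (bcHom_fst f₂ g₂ _).symm
      · rw [bcMap_snd, bcHom_snd]
    rw [e2]
    exact MorphismProperty.of_isPullback (P := @IsProper)
      (isPullback_bcHom f₂ g₂ ((FGSub.specDiag A).map l.hom)) hk'
  refine ⟨↥l.left.unop.1, inferInstance, hN, (FGSub.specCone A).π.app l.left,
    pullback (f₂ ≫ g₂) ((FGSub.specDiag A).map l.hom),
    pullback g₂ ((FGSub.specDiag A).map l.hom), bcMap f₂ g₂ l,
    pullback.snd g₂ ((FGSub.specDiag A).map l.hom), qX, qY, L₀,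
    inferInstance, inferInstance, hfl, hqY, hqX, hL₀, ⟨e⟩⟩

end Model

end Groth.Agent.Helper7.AmpleCons
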