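import Mathlib
import Groth.Agent.Lib.Helper7.AmpleCons.ProperModel
import Groth.Agent.Lib.Helper7.FibAmple.Nbhd
import Groth.Agent.S4381

set_option linter.style.haveILetI false
set_option linter.unusedVariables false
set_option linter.unusedSectionVars false
set_option autoImplicit false
set_option backward.isDefEq.respectTransparency.types false
set_option backward.isDefEq.respectTransparency false
set_option synthInstance.maxHeartbeats 400000
set_option maxHeartbeats 1600000

universe u

/-! helper7: the fibrewise criterion for relative ampleness for proper morphisms of finite presentation (EGA IV 9.6.4): base change of fibrewise ampleness, the Noetherian case from the spreading out of ampleness on a fibre, restriction of cartesian squares over opens, reduction to a Noetherian model with proper morphism -/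

open CategoryTheory CategoryTheory.Limits AlgebraicGeometry Opposite TopologicalSpace Topology

namespace Groth.Agent.Helper7.AmpleCons

open Groth.Agent.Helper1 Groth.Agent.Helper7.ConsMod Groth.Agent.Helper7.LimBC
  Groth.Agent.Helper7.GenStage Groth.Agent.Helper7.LimStage Groth.Agent.Helper7.ConsPair
  Groth.Agent.Helper7.StalkLim Groth.Agent.Helper7.LimDesc Groth.Agent.Helper7.ProConsLib
  Groth.Agent.Helper7

section Fibre

variable {X Y X' Y' : Scheme.{u}} {f : X ⟶ Y} {f' : X' ⟶ Y'} {pX : X' ⟶ X} {pY : Y' ⟶ Y}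

/-- ampleness on the fibres commutes with base change. -/
theorem isAmple_fiber_iff_of_isPullback (hX : IsPullback pX f' f pY) [QuasiCompact f]
    (L : X.Modules) (hL : PicF.IsInvertible L) (L' : X'.Modules)
    (eL : L' ≅ (Scheme.Modules.pullback pX).obj L) (y' : Y') :
    CohB1.IsAmple ((Scheme.Modules.pullback (f'.fiberι y')).obj L') ↔
      CohB1.IsAmple ((Scheme.Modules.pullback (f.fiberι (pY y'))).obj L) := by
  have hsq := isPullback_fiberToSpecResidueField_of_isPullback hX y'
  have hfpqc := ConsMor.fpqc_of_subsingleton (Spec.map (pY.residueFieldMap y'))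
  haveI : Surjective (Spec.map (pY.residueFieldMap y')) := hfpqc.1.1
  haveI : Flat (Spec.map (pY.residueFieldMap y')) := hfpqc.1.2
  haveI : QuasiCompact (Spec.map (pY.residueFieldMap y')) := hfpqc.2
  have he : pullback.map _ _ _ _ pX (Spec.map (pY.residueFieldMap y')) pY hX.w.symm (by simp) ≫
      f.fiberι (pY y') = f'.fiberι y' ≫ pX := pullback.lift_fst _ _ _
  have eM := (Scheme.Modules.pullback (f'.fiberι y')).mapIso eL ≪≫ pullbackSquareIso he.symm L
  haveI : QuasiCompact f' := MorphismProperty.of_isPullback (P := @QuasiCompact) hX inferInstance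
  haveI : QuasiCompact (f.fiberToSpecResidueField (pY y')) :=
    MorphismProperty.of_isPullback (P := @QuasiCompact)
      (IsPullback.of_hasPullback f (Y.fromSpecResidueField (pY y'))) inferInstance
  haveI : QuasiCompact (f'.fiberToSpecResidueField y') :=
    MorphismProperty.of_isPullback (P := @QuasiCompact)
      (IsPullback.of_hasPullback f' (Y'.fromSpecResidueField y')) inferInstance
  rw [← Groth.Agent.S4381.result (f'.fiberToSpecResidueField y'),
    ← Groth.Agent.S4381.result (f.fiberToSpecResidueField (pY y'))]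
  constructor
  · intro h
    exact isRelAmple_of_isPullback_of_fpqc hsq _ (PullGen.isInvertible_pullback _ hL)
      (LimAmple.isRelAmple_of_iso _ eM h)
  · intro h
    exact LimAmple.isRelAmple_of_iso _ eM.symm (isRelAmple_of_isPullback hsq _ h)

/-- a relatively ample module is ample on the fibres. -/
theorem isAmple_fiber_of_isRelAmple {X Y : Scheme.{u}} (f : X ⟶ Y) (L : X.Modules)
    (h : RelAmple.IsRelAmple f L) (y : Y) :
    CohB1.IsAmple ((Scheme.Modules.pullback (f.fiberι y)).obj L) := by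
  haveI : QuasiCompact f := h.1
  haveI : QuasiCompact (f.fiberToSpecResidueField y) :=
    MorphismProperty.of_isPullback (P := @QuasiCompact)
      (IsPullback.of_hasPullback f (Y.fromSpecResidueField y)) inferInstance
  have h1 := isRelAmple_of_isPullback (IsPullback.of_hasPullback f (Y.fromSpecResidueField y)) L h
  exact (Groth.Agent.S4381.result (f.fiberToSpecResidueField y) _).mp h1

end Fibre

section Noeth

/-- over a locally Noetherian base, an invertible module on a proper scheme which is ample on all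
the fibres is relatively ample. -/
theorem isRelAmple_of_forall_fiber_noeth {X Y : Scheme.{u}} (f : X ⟶ Y) [IsProper f]
    [IsLocallyNoetherian Y] (L : X.Modules) (hL : PicF.IsInvertible L)
    (h : ∀ y : Y, CohB1.IsAmple ((Scheme.Modules.pullback (f.fiberι y)).obj L)) :
    RelAmple.IsRelAmple f L := by
  choose V hV hyV hamp using fun y : Y =>
    FibAmple.exists_affine_nbhd_isAmple_of_fibre f L hL y (h y)
  refine (AmpleLib.isRelAmple_iff_of_openCover f L V ?_).mpr (fun y => ?_)
  · rw [eq_top_iff]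
    intro y _
    exact Opens.mem_iSup.2 ⟨y, hyV y⟩
  · haveI : IsAffine (↑(V y) : Scheme.{u}) := hV y
    exact (Groth.Agent.S4381.result (f ∣_ V y) _).mpr (hamp y)

end Noeth

section Restrict

variable {X Y X₀ Y₀ : Scheme.{u}} {f : X ⟶ Y} {f₀ : X₀ ⟶ Y₀} {qX : X ⟶ X₀} {qY : Y ⟶ Y₀}

/-- the restriction of a cartesian square over an open of the base. -/
theorem exists_restrict_square (hX : IsPullback qX f f₀ qY) (V : Y₀.Opens) :
    ∃ a : (↑(f ⁻¹ᵁ (qY ⁻¹ᵁ V)) : Scheme.{u}) ⟶ (↑(f₀ ⁻¹ᵁ V) : Scheme.{u}),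
      IsPullback a (f ∣_ (qY ⁻¹ᵁ V)) (f₀ ∣_ V) (qY ∣_ V) ∧
      a ≫ (f₀ ⁻¹ᵁ V).ι = (f ⁻¹ᵁ (qY ⁻¹ᵁ V)).ι ≫ qX := by
  have hA := (isPullback_morphismRestrict f₀ V).flip
  have hB := (isPullback_morphismRestrict f (qY ⁻¹ᵁ V)).flip
  have big : IsPullback ((f ⁻¹ᵁ (qY ⁻¹ᵁ V)).ι ≫ qX) (f ∣_ (qY ⁻¹ᵁ V)) f₀
      ((qY ⁻¹ᵁ V).ι ≫ qY) := hB.paste_horiz hX
  have w : ((f ⁻¹ᵁ (qY ⁻¹ᵁ V)).ι ≫ qX) ≫ f₀ = ((f ∣_ (qY ⁻¹ᵁ V)) ≫ (qY ∣_ V)) ≫ V.ι := by
    rw [big.w, Category.assoc, morphismRestrict_ι]
  refine ⟨hA.lift _ _ w, ?_, hA.lift_fst _ _ w⟩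
  refine IsPullback.of_right (h₁₂ := (f₀ ⁻¹ᵁ V).ι) (h₂₂ := V.ι) (v₁₃ := f₀) ?_
    (hA.lift_snd _ _ w) hA
  rw [hA.lift_fst, morphismRestrict_ι]
  exact big

/-- relative ampleness over an open of the base passes to the base change. -/
theorem isRelAmple_restrict_of_isPullback (hX : IsPullback qX f f₀ qY) (V : Y₀.Opens)
    (L₀ : X₀.Modules) (L : X.Modules) (e : L ≅ (Scheme.Modules.pullback qX).obj L₀)
    (h : RelAmple.IsRelAmple (f₀ ∣_ V) (L₀.restrict (f₀ ⁻¹ᵁ V).ι)) :
    RelAmple.IsRelAmple (f ∣_ (qY ⁻¹ᵁ V)) (L.restrict (f ⁻¹ᵁ (qY ⁻¹ᵁ V)).ι) := by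
  obtain ⟨a, sq, ha⟩ := exists_restrict_square hX V
  have h1 := isRelAmple_of_isPullback sq _ h
  refine LimAmple.isRelAmple_of_iso _ ?_ h1
  exact (Scheme.Modules.pullback a).mapIso
      ((Scheme.Modules.restrictFunctorIsoPullback (f₀ ⁻¹ᵁ V).ι).app L₀) ≪≫
    pullbackSquareIso ha L₀ ≪≫
    (Scheme.Modules.pullback (f ⁻¹ᵁ (qY ⁻¹ᵁ V)).ι).mapIso e.symm ≪≫
    ((Scheme.Modules.restrictFunctorIsoPullback (f ⁻¹ᵁ (qY ⁻¹ᵁ V)).ι).app L).symm

end Restrict

section Main

set_option backward.isDefEq.respectTransparency false in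
/-- the fibrewise criterion for relative ampleness over an affine base of the base: proper
morphisms between schemes of finite presentation. -/
theorem isRelAmple_of_forall_fiber_affineBase (A : Type u) [CommRing A] {X Y : Scheme.{u}}
    (f : X ⟶ Y) (g : Y ⟶ Spec (CommRingCat.of A))
    [LocallyOfFinitePresentation g] [QuasiCompact g] [QuasiSeparated g]
    [LocallyOfFinitePresentation (f ≫ g)] [QuasiCompact (f ≫ g)] [QuasiSeparated (f ≫ g)]
    [IsProper f] (L : X.Modules) (hL : PicF.IsInvertible L)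
    (h : ∀ y : Y, CohB1.IsAmple ((Scheme.Modules.pullback (f.fiberι y)).obj L)) :
    RelAmple.IsRelAmple f L := by
  obtain ⟨A₀, _, _, π, X₀, Y₀, f₀, g₀, qX, qY, L₀, hg₀ft, hg₀qc, hf₀, hY, hX, hL₀, ⟨e⟩⟩ :=
    exists_noetherian_model_proper_inv A f g L hL
  haveI := hg₀ft
  haveI := hg₀qc
  haveI := hf₀
  haveI : IsNoetherian Y₀ := isNoetherian_of_finiteType g₀
  have hfib : ∀ y : Y,
      CohB1.IsAmple ((Scheme.Modules.pullback (f₀.fiberι (qY y))).obj L₀) :=
    fun y => (isAmple_fiber_iff_of_isPullback hX L₀ hL₀ L e y).mp (h y)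
  choose V hV hyV hamp using fun y : Y =>
    FibAmple.exists_affine_nbhd_isAmple_of_fibre f₀ L₀ hL₀ (qY y) (hfib y)
  refine (AmpleLib.isRelAmple_iff_of_openCover f L (fun y => qY ⁻¹ᵁ V y) ?_).mpr (fun y => ?_)
  · rw [eq_top_iff]
    intro y _
    exact Opens.mem_iSup.2 ⟨y, hyV y⟩
  · haveI : IsAffine (↑(V y) : Scheme.{u}) := hV y
    exact isRelAmple_restrict_of_isPullback hX (V y) L₀ L e
      ((Groth.Agent.S4381.result (f₀ ∣_ V y) _).mpr (hamp y))

set_option backward.isDefEq.respectTransparency false in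
/-- **the fibrewise criterion for relative ampleness** (EGA IV 9.6.4 / III 4.7.1): for a proper
morphism of finite presentation, an invertible module is relatively ample iff it is ample on all
the fibres. -/
theorem isRelAmple_iff_forall_fiber {X S : Scheme.{u}} (f : X ⟶ S) [IsProper f]
    [LocallyOfFinitePresentation f] (L : X.Modules) (hL : PicF.IsInvertible L) :
    RelAmple.IsRelAmple f L ↔
      ∀ s : S, CohB1.IsAmple ((Scheme.Modules.pullback (f.fiberι s)).obj L) := by
  constructor
  · intro h s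
    exact isAmple_fiber_of_isRelAmple f L h s
  · intro h
    refine ⟨inferInstance, fun V => ?_⟩
    haveI : IsAffine (↑V.1 : Scheme.{u}) := V.2
    have hL' : PicF.IsInvertible (L.restrict (f ⁻¹ᵁ V.1).ι) :=
      AmpleLib.isInvertible_restrict _ hL
    have hsq := (isPullback_morphismRestrict f V.1).flip
    haveI : LocallyOfFinitePresentation (f ∣_ V.1) :=
      MorphismProperty.of_isPullback (P := @LocallyOfFinitePresentation) hsq inferInstance
    haveI : IsProper (f ∣_ V.1) :=
      MorphismProperty.of_isPullback (P := @IsProper) hsq inferInstance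
    have hfib : ∀ y : ↥(↑V.1 : Scheme.{u}), CohB1.IsAmple ((Scheme.Modules.pullback
        ((f ∣_ V.1).fiberι y)).obj (L.restrict (f ⁻¹ᵁ V.1).ι)) := by
      intro y
      exact (isAmple_fiber_iff_of_isPullback hsq L hL _
        ((Scheme.Modules.restrictFunctorIsoPullback (f ⁻¹ᵁ V.1).ι).app L) y).mpr (h (V.1.ι y))
    have h1 := isRelAmple_of_forall_fiber_affineBase Γ(S, V.1) (f ∣_ V.1) V.2.isoSpec.hom _ hL'
      hfib
    exact (Groth.Agent.S4381.result (f ∣_ V.1) _).mp h1

end Main

end Groth.Agent.Helper7.AmpleCons
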