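import Mathlib
import Groth.Prelude.Def_LCI2
import Groth.Prelude.Def_ProCons
import Groth.Prelude.Def_RelProj
import Groth.Agent.Lib.Helper7.AmpleCons.Main
import Groth.Agent.Lib.Helper7.LimIdeal
import Groth.Agent.Lib.Helper1.CompAmple

set_option linter.style.haveILetI false
set_option linter.unusedVariables false
set_option linter.unusedSectionVars false
set_option autoImplicit false
set_option backward.isDefEq.respectTransparency.types false
set_option backward.isDefEq.respectTransparency false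
set_option synthInstance.maxHeartbeats 400000
set_option maxHeartbeats 1600000

universe u

/-! helper7: ind-constructibility of the locus where the morphism of fibres admits a relatively ample module: limit over finitely generated subideals, descent of existence of relatively ample modules along cofiltered limits, models of closed subschemes of the local scheme -/

open CategoryTheory CategoryTheory.Limits AlgebraicGeometry Opposite TopologicalSpace Topology

namespace Groth.Agent.Helper7.FGQuot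

variable (R : Type u) [CommRing R] (𝔞 : Ideal R)

/-- finitely generated ideals contained in `𝔞`. -/
abbrev Idx : Type u := {J : Ideal R // J.FG ∧ J ≤ 𝔞}

instance : Nonempty (Idx R 𝔞) := ⟨⟨⊥, Submodule.fg_bot, bot_le⟩⟩

instance : IsDirected (Idx R 𝔞) (· ≤ ·) :=
  ⟨fun a b => ⟨⟨a.1 ⊔ b.1, Submodule.FG.sup a.2.1 b.2.1, sup_le a.2.2 b.2.2⟩,
    (le_sup_left : a.1 ≤ a.1 ⊔ b.1), (le_sup_right : b.1 ≤ a.1 ⊔ b.1)⟩⟩

instance : IsFiltered (Idx R 𝔞) := inferInstance

/-- the diagram of quotients by the finitely generated subideals. -/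
noncomputable def ringDiag : Idx R 𝔞 ⥤ CommRingCat.{u} where
  obj J := CommRingCat.of (R ⧸ J.1)
  map {X Y} f := CommRingCat.ofHom (Ideal.Quotient.factor (leOfHom f))
  map_id X := by
    ext x
    rfl
  map_comp f g := by
    ext x
    rfl

/-- the cocone of quotient maps to the quotient by `𝔞`. -/
noncomputable def ringCocone : Cocone (ringDiag R 𝔞) where
  pt := CommRingCat.of (R ⧸ 𝔞)
  ι :=
    { app := fun J => CommRingCat.ofHom (Ideal.Quotient.factor J.2.2)
      naturality := fun X Y f => by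
        ext x
        obtain ⟨r, rfl⟩ := Ideal.Quotient.mk_surjective x
        rfl }

theorem isColimit_ringCocone : Nonempty (IsColimit (ringCocone R 𝔞)) := by
  let G : CommRingCat.{u} ⥤ Type u := forget CommRingCat
  have : G.ReflectsIsomorphisms := inferInstance
  have : HasColimit (ringDiag R 𝔞) := inferInstance
  have : PreservesColimit (ringDiag R 𝔞) G := inferInstance
  have : ReflectsColimit (ringDiag R 𝔞) G := reflectsColimit_of_reflectsIsomorphisms _ G
  refine ⟨isColimitOfReflects G ?_⟩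
  refine Types.FilteredColimit.isColimitOf' (ringDiag R 𝔞 ⋙ G) (G.mapCocone (ringCocone R 𝔞))
    ?_ ?_
  · intro x
    obtain ⟨r, rfl⟩ := Ideal.Quotient.mk_surjective (I := 𝔞) x
    exact ⟨⟨⊥, Submodule.fg_bot, bot_le⟩, Ideal.Quotient.mk ⊥ r, rfl⟩
  · intro j y y' h
    obtain ⟨r, rfl⟩ := Ideal.Quotient.mk_surjective (I := j.1) y
    obtain ⟨r', rfl⟩ := Ideal.Quotient.mk_surjective (I := j.1) y'
    have h1 : r - r' ∈ 𝔞 := by
      have h2 : (Ideal.Quotient.mk 𝔞) r = (Ideal.Quotient.mk 𝔞) r' := h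
      exact Ideal.Quotient.eq.mp h2
    refine ⟨⟨j.1 ⊔ Ideal.span {r - r'}, Submodule.FG.sup j.2.1 (Submodule.fg_span_singleton _),
      sup_le j.2.2 ((Ideal.span_singleton_le_iff_mem _).mpr h1)⟩,
      homOfLE (le_sup_left : j.1 ≤ j.1 ⊔ Ideal.span {r - r'}), ?_⟩
    show (Ideal.Quotient.mk (j.1 ⊔ Ideal.span {r - r'})) r =
      (Ideal.Quotient.mk (j.1 ⊔ Ideal.span {r - r'})) r'
    exact Ideal.Quotient.eq.mpr (Ideal.mem_sup_right (Ideal.subset_span rfl))

/-- the diagram of spectra of the quotients. -/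
noncomputable def specDiag : (Idx R 𝔞)ᵒᵖ ⥤ Scheme.{u} := (ringDiag R 𝔞).op ⋙ Scheme.Spec

/-- the cone over it with vertex the spectrum of the quotient by `𝔞`. -/
noncomputable def specCone : Cone (specDiag R 𝔞) := Scheme.Spec.mapCone (ringCocone R 𝔞).op

theorem isLimit_specCone : Nonempty (IsLimit (specCone R 𝔞)) :=
  ⟨isLimitOfPreserves Scheme.Spec (isColimit_ringCocone R 𝔞).some.op⟩

instance {i j : (Idx R 𝔞)ᵒᵖ} (f : i ⟶ j) : IsAffineHom ((specDiag R 𝔞).map f) := by
  show IsAffineHom (Spec.map _)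
  infer_instance

instance (i : (Idx R 𝔞)ᵒᵖ) : CompactSpace ↥((specDiag R 𝔞).obj i) := by
  show CompactSpace ↥(Spec _)
  infer_instance

instance (i : (Idx R 𝔞)ᵒᵖ) : QuasiSeparatedSpace ↥((specDiag R 𝔞).obj i) := by
  show QuasiSeparatedSpace ↥(Spec _)
  infer_instance

theorem specCone_π_comp (J : Idx R 𝔞) :
    (specCone R 𝔞).π.app (op J) ≫ Spec.map (CommRingCat.ofHom (Ideal.Quotient.mk J.1)) =
      Spec.map (CommRingCat.ofHom (Ideal.Quotient.mk 𝔞)) := by
  change Spec.map (CommRingCat.ofHom (Ideal.Quotient.factor J.2.2)) ≫ Spec.map _ = _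
  rw [← Spec.map_comp]
  congr 1

theorem specDiag_map_comp {i j : (Idx R 𝔞)ᵒᵖ} (φ : i ⟶ j) :
    (specDiag R 𝔞).map φ ≫ Spec.map (CommRingCat.ofHom (Ideal.Quotient.mk j.unop.1)) =
      Spec.map (CommRingCat.ofHom (Ideal.Quotient.mk i.unop.1)) := by
  change Spec.map (CommRingCat.ofHom (Ideal.Quotient.factor (leOfHom φ.unop))) ≫ Spec.map _ = _
  rw [← Spec.map_comp]
  congr 1

end Groth.Agent.Helper7.FGQuot

namespace Groth.Agent.Helper7.AmpleCons

open Groth.Agent.Helper1 Groth.Agent.Helper7.ConsMod Groth.Agent.Helper7.LimBC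
  Groth.Agent.Helper7.GenStage Groth.Agent.Helper7.LimStage Groth.Agent.Helper7.ConsPair
  Groth.Agent.Helper7.StalkLim Groth.Agent.Helper7.LimDesc Groth.Agent.Helper7.ProConsLib
  Groth.Agent.Helper7

section Basic

/-- existence of a relatively ample module. -/
def HasRA {X Y : Scheme.{u}} (f : X ⟶ Y) : Prop :=
  ∃ L : X.Modules, RelAmple.IsRelAmple f L

/-- existence of a relatively ample module passes to base changes, for two base changes of the
same pair of morphisms one of whose bases maps to the other. -/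
theorem hasRA_of_fac {X Y S T₁ T₂ X₁ Y₁ X₂ Y₂ : Scheme.{u}} {f : X ⟶ Y} {g : Y ⟶ S}
    {t₁ : T₁ ⟶ S} {t₂ : T₂ ⟶ S} {f₁ : X₁ ⟶ Y₁} {g₁ : Y₁ ⟶ T₁} {pY₁ : Y₁ ⟶ Y} {pX₁ : X₁ ⟶ X}
    (hY₁ : IsPullback pY₁ g₁ g t₁) (hX₁ : IsPullback pX₁ f₁ f pY₁) {f₂ : X₂ ⟶ Y₂}
    {g₂ : Y₂ ⟶ T₂} {pY₂ : Y₂ ⟶ Y} {pX₂ : X₂ ⟶ X} (hY₂ : IsPullback pY₂ g₂ g t₂)
    (hX₂ : IsPullback pX₂ f₂ f pY₂) (r : T₂ ⟶ T₁) (hr : r ≫ t₁ = t₂) (h : HasRA f₁) :
    HasRA f₂ := by
  obtain ⟨L, hL⟩ := h
  obtain ⟨rY, hrY1, hrY⟩ := exists_isPullback_of_fac hY₁ r t₂ hr hY₂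
  obtain ⟨rX, hrX1, hrX⟩ := exists_isPullback_of_fac hX₁ rY pY₂ hrY1 hX₂
  exact ⟨_, isRelAmple_of_isPullback hrX L hL⟩

/-- the set of points of the base over which the morphism of fibres admits a relatively ample
module. -/
def locusHRA {X Y S : Scheme.{u}} (f : X ⟶ Y) (g : Y ⟶ S) : Set S :=
  {s | HasRA (MoreMor.fiberMap f g s)}

theorem mem_locusHRA_of_hasRA {X Y S : Scheme.{u}} (f : X ⟶ Y) (g : Y ⟶ S) (h : HasRA f)
    (s : S) : s ∈ locusHRA f g := by
  obtain ⟨L, hL⟩ := h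
  exact ⟨_, isRelAmple_of_isPullback (ConsMor.isPullback_fiberMap f g s) L hL⟩

variable {X Y S X' Y' S' : Scheme.{u}} {f : X ⟶ Y} {g : Y ⟶ S} {π : S' ⟶ S} {f' : X' ⟶ Y'}
  {g' : Y' ⟶ S'} {pX : X' ⟶ X} {pY : Y' ⟶ Y}

theorem mem_locusHRA_of_mem (hY : IsPullback pY g' g π) (hX : IsPullback pX f' f pY) (z' : S')
    (h : π z' ∈ locusHRA f g) : z' ∈ locusHRA f' g' := by
  have hY1 := (IsPullback.of_hasPullback g' (S'.fromSpecResidueField z')).paste_horiz hY
  have hX1 := (ConsMor.isPullback_fiberMap f' g' z').paste_horiz hX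
  exact hasRA_of_fac (IsPullback.of_hasPullback g (S.fromSpecResidueField (π z')))
    (ConsMor.isPullback_fiberMap f g (π z')) hY1 hX1 (Spec.map (π.residueFieldMap z'))
    (Scheme.Hom.SpecMap_residueFieldMap_fromSpecResidueField π z') h

theorem mem_locusHRA_of_isIso (hY : IsPullback pY g' g π) (hX : IsPullback pX f' f pY) (z' : S')
    [IsIso (π.residueFieldMap z')] (h : z' ∈ locusHRA f' g') : π z' ∈ locusHRA f g := by
  have hY1 := (IsPullback.of_hasPullback g' (S'.fromSpecResidueField z')).paste_horiz hY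
  have hX1 := (ConsMor.isPullback_fiberMap f' g' z').paste_horiz hX
  exact hasRA_of_fac hY1 hX1 (IsPullback.of_hasPullback g (S.fromSpecResidueField (π z')))
    (ConsMor.isPullback_fiberMap f g (π z')) (inv (Spec.map (π.residueFieldMap z')))
    (by rw [IsIso.inv_comp_eq, Scheme.Hom.SpecMap_residueFieldMap_fromSpecResidueField]) h

/-- the residue field maps of a morphism which is surjective on stalks are isomorphisms. -/
theorem isIso_residueFieldMap_of_surjectiveOnStalks {X Y : Scheme.{u}} (f : X ⟶ Y)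
    [SurjectiveOnStalks f] (x : X) : IsIso (f.residueFieldMap x) := by
  rw [ConcreteCategory.isIso_iff_bijective]
  refine ⟨RingHom.injective _, ?_⟩
  intro b
  obtain ⟨c, hc⟩ := X.residue_surjective x b
  obtain ⟨d, hd⟩ := f.stalkMap_surjective x c
  refine ⟨Y.residue (f x) d, ?_⟩
  calc f.residueFieldMap x (Y.residue (f x) d)
      = (Y.residue (f x) ≫ f.residueFieldMap x) d := rfl
    _ = (f.stalkMap x ≫ X.residue x) d := by rw [Scheme.residue_residueFieldMap]
    _ = X.residue x (f.stalkMap x d) := rfl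
    _ = b := by rw [hd, hc]

/-- a quotient by a finitely generated ideal is of finite presentation. -/
theorem lfp_specMap_mk {R : Type u} [CommRing R] (J : Ideal R) (hJ : J.FG) :
    LocallyOfFinitePresentation (Spec.map (CommRingCat.ofHom (Ideal.Quotient.mk J))) := by
  rw [HasRingHomProperty.Spec_iff (P := @LocallyOfFinitePresentation)]
  refine RingHom.FinitePresentation.of_surjective _ ?_ ?_
  · exact Ideal.Quotient.mk_surjective
  · show (RingHom.ker (Ideal.Quotient.mk J)).FG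
    rwa [Ideal.mk_ker]

/-- a subset of a scheme each point of which has an ind-constructible neighbourhood inside the
subset (for the constructible topology) is ind-constructible. -/
theorem isIndConstructible_of_forall_mem_exists {S : Scheme.{u}} (E : Set S)
    (H : ∀ s ∈ E, ∃ F : Set S, ProCons.IsIndConstructible F ∧ s ∈ F ∧ F ⊆ E) :
    ProCons.IsIndConstructible E := by
  apply isIndConstructible_of_forall_exists
  intro x
  obtain ⟨U, hxU⟩ := exists_affineOpen_mem S x
  have hs := spectralSpace_affineOpen S U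
  refine ⟨((U : S.Opens) : Set S), (U : S.Opens).2, hs, hxU, ?_⟩
  rw [@isOpen_iff_forall_mem_open _ (constructibleTopology ((U : S.Opens) : Set S))]
  intro y hy
  obtain ⟨F, hF, hyF, hFE⟩ := H y.1 hy
  have hop := isOpen_cons_of_isIndConstructible
    (isIndConstructible_preimage_val hF (U : S.Opens).2)
  exact ⟨Subtype.val ⁻¹' F, Set.preimage_mono hFE, hop, hyF⟩

end Basic

section Stage

variable {I : Type u} [SmallCategory I] [IsCofiltered I] (D : I ⥤ Scheme.{u}) (c : Cone D)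
  (hc : IsLimit c) [∀ (i j : I) (f : i ⟶ j), IsAffineHom (D.map f)] (i₀ : I)

include hc in
/-- the existence of a relatively ample module on the base change to a cofiltered limit descends
to a finite stage. -/
theorem exists_stage_hasRA [CompactSpace (D.obj i₀)] [QuasiSeparatedSpace (D.obj i₀)]
    {X₀ Y₀ : Scheme.{u}} (f₀ : X₀ ⟶ Y₀) (g₀ : Y₀ ⟶ D.obj i₀) [QuasiCompact g₀]
    [QuasiSeparated g₀] [QuasiCompact (f₀ ≫ g₀)] [QuasiSeparated (f₀ ≫ g₀)] {X Y : Scheme.{u}}
    (f : X ⟶ Y) (g : Y ⟶ c.pt) (qY : Y ⟶ Y₀) (qX : X ⟶ X₀)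
    (hY : IsPullback qY g g₀ (c.π.app i₀)) (hX : IsPullback qX f f₀ qY) (h : HasRA f) :
    ∃ (j : I) (φ : j ⟶ i₀) (Xj Yj : Scheme.{u}) (fj : Xj ⟶ Yj) (gj : Yj ⟶ D.obj j)
      (pY : Yj ⟶ Y₀) (pX : Xj ⟶ X₀), IsPullback pY gj g₀ (D.map φ) ∧ IsPullback pX fj f₀ pY ∧
        HasRA fj := by
  obtain ⟨L, hLamp⟩ := h
  have hL := Groth.Agent.Helper1.CompAmple.isInvertible_of_isRelAmple f hLamp
  have hI : ∀ {i j : I} (f : i ⟶ j), IsAffineHom (D.map f) := fun f => inferInstance
  haveI : CompactSpace X₀ := QuasiCompact.compactSpace_of_compactSpace (f₀ ≫ g₀)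
  haveI : QuasiSeparatedSpace X₀ := quasiSeparatedSpace_of_quasiSeparated (f₀ ≫ g₀)
  have hXa : IsPullback qX (f ≫ g) (f₀ ≫ g₀) (c.π.app i₀) := hX.paste_vert hY
  haveI : L.IsQuasicoherent := Groth.Agent.Helper1.InvQc.isQuasicoherent_of_isInvertible L hL
  have hLfp : CohB1.IsFP L := isFP_of_isFinLocFreeOfRank L (isFinLocFreeOfRank_one hL)
  obtain ⟨k, Gk, hGkqc, hGkfp, ⟨e⟩⟩ := exists_descend_bc D c hc i₀ (f₀ ≫ g₀) hXa L hLfp
  haveI := hGkqc
  have hr1 : FlatMod.IsFinLocFreeOfRank 1 ((Scheme.Modules.pullback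
      (bcπ (D := D) (c := c) (a := f₀ ≫ g₀) hXa k)).obj Gk) :=
    isFinLocFreeOfRank_of_iso e.symm (isFinLocFreeOfRank_one hL)
  haveI : ∀ (j k : Over i₀) (u : j ⟶ k), IsAffineHom ((bcDiagram D i₀ (f₀ ≫ g₀)).map u) :=
    fun _ _ u => inferInstance
  obtain ⟨l, ψ, hl⟩ := (Groth.Agent.Lead.LimZ.isFinLocFreeOfRank_pullback_iff_eventually
    (bcDiagram D i₀ (f₀ ≫ g₀)) (bcCone (D := D) (c := c) (a := f₀ ≫ g₀) hXa)
    (isLimitBcCone hc hXa) k Gk hGkfp 1).1 hr1
  have hLl := isInvertible_of_rank_one hl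
  have hYl := isPullback_bcCone_π (D := D) (c := c) (a := g₀) hY l
  have hXl := isPullback_bcCone_π (D := D) (c := c) (a := f₀ ≫ g₀) hXa l
  have hcomm := bcπ_bcMap (D := D) (c := c) f₀ g₀ hY hXa hX.w l
  have hX₀ : IsPullback (bcπ (D := D) (c := c) (a := f₀ ≫ g₀) hXa l) f (bcMap f₀ g₀ l)
      (bcπ (D := D) (c := c) (a := g₀) hY l) := by
    refine IsPullback.of_bot (v₂₁ := g) (v₂₂ := pullback.snd g₀ (D.map l.hom))
      (h₃₁ := c.π.app l.left) ?_ hcomm hYl
    rw [bcMap_snd]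
    exact hXl
  haveI : CompactSpace (D.obj l.left) := QuasiCompact.compactSpace_of_compactSpace (D.map l.hom)
  haveI : QuasiCompact (bcMap f₀ g₀ l ≫ pullback.snd g₀ (D.map l.hom)) := by
    rw [bcMap_snd]; infer_instance
  haveI : QuasiSeparated (bcMap f₀ g₀ l ≫ pullback.snd g₀ (D.map l.hom)) := by
    rw [bcMap_snd]; infer_instance
  have hamp : RelAmple.IsRelAmple f ((Scheme.Modules.pullback
      (bcπ (D := D) (c := c) (a := f₀ ≫ g₀) hXa l)).obj ((Scheme.Modules.pullback
        ((bcDiagram D i₀ (f₀ ≫ g₀)).map ψ)).obj Gk)) :=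
    LimAmple.isRelAmple_of_iso f (e.symm ≪≫ pullbackFacIso
      ((bcCone (D := D) (c := c) (a := f₀ ≫ g₀) hXa).w ψ) Gk) hLamp
  obtain ⟨j, φ, Xj, Yj, fj, gj, pY, pX, hYj, hXj, hj⟩ := LimAmple.exists_stage D c hc l.left
    (bcMap f₀ g₀ l) (pullback.snd g₀ (D.map l.hom)) _ hLl f g
    (bcπ (D := D) (c := c) (a := g₀) hY l) (bcπ (D := D) (c := c) (a := f₀ ≫ g₀) hXa l)
    hYl hX₀ hamp
  have hYm : IsPullback (pullback.fst g₀ (D.map l.hom)) (pullback.snd g₀ (D.map l.hom)) g₀
      (D.map l.hom) := IsPullback.of_hasPullback _ _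
  have hw : pullback.fst (f₀ ≫ g₀) (D.map l.hom) ≫ f₀ =
      bcMap f₀ g₀ l ≫ pullback.fst g₀ (D.map l.hom) := (bcMap_bcFst f₀ g₀ l).symm
  have hXm : IsPullback (pullback.fst (f₀ ≫ g₀) (D.map l.hom)) (bcMap f₀ g₀ l) f₀
      (pullback.fst g₀ (D.map l.hom)) := by
    refine IsPullback.of_bot (v₂₁ := pullback.snd g₀ (D.map l.hom)) (v₂₂ := g₀)
      (h₃₁ := D.map l.hom) ?_ hw hYm
    rw [bcMap_snd]
    exact IsPullback.of_hasPullback _ _
  refine ⟨j, φ ≫ l.hom, Xj, Yj, fj, gj, pY ≫ pullback.fst g₀ (D.map l.hom),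
    pX ≫ pullback.fst (f₀ ≫ g₀) (D.map l.hom), ?_, hXj.paste_horiz hXm, ⟨_, hj⟩⟩
  rw [D.map_comp]
  exact hYj.paste_horiz hYm

end Stage

section Chain

variable {X Y S : Scheme.{u}} (f : X ⟶ Y) (g : Y ⟶ S) [QuasiCompact g] [QuasiSeparated g]
  [QuasiCompact (f ≫ g)] [QuasiSeparated (f ≫ g)]

/-- if the base change to the spectrum of the quotient by an ideal admits a relatively ample
module, so does the base change to the spectrum of the quotient by a finitely generated
subideal. -/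
theorem exists_fg_hasRA (R : Type u) [CommRing R] (𝔞 : Ideal R)
    (b : Spec (CommRingCat.of R) ⟶ S)
    (h : HasRA (bcHom f g (Spec.map (CommRingCat.ofHom (Ideal.Quotient.mk 𝔞)) ≫ b))) :
    ∃ J : Ideal R, J.FG ∧ J ≤ 𝔞 ∧
      HasRA (bcHom f g (Spec.map (CommRingCat.ofHom (Ideal.Quotient.mk J)) ≫ b)) := by
  obtain ⟨hc⟩ := FGQuot.isLimit_specCone R 𝔞
  obtain ⟨i₀, hi₀⟩ : ∃ i₀ : (FGQuot.Idx R 𝔞)ᵒᵖ, i₀ = op ⟨⊥, Submodule.fg_bot, bot_le⟩ :=
    ⟨_, rfl⟩
  obtain ⟨a₀, ha₀⟩ : ∃ a₀ : (FGQuot.specDiag R 𝔞).obj i₀ ⟶ S,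
      a₀ = Spec.map (CommRingCat.ofHom (Ideal.Quotient.mk i₀.unop.1)) ≫ b := ⟨_, rfl⟩
  obtain ⟨t, ht⟩ : ∃ t : (FGQuot.specCone R 𝔞).pt ⟶ S,
      t = Spec.map (CommRingCat.ofHom (Ideal.Quotient.mk 𝔞)) ≫ b := ⟨_, rfl⟩
  have hπ : (FGQuot.specCone R 𝔞).π.app i₀ ≫ a₀ = t := by
    rw [ha₀, ht, ← Category.assoc]
    congr 1
    exact FGQuot.specCone_π_comp R 𝔞 i₀.unop
  rw [← ht] at h
  have hpbY := IsPullback.of_hasPullback g a₀
  have hpbX := IsPullback.of_hasPullback f (pullback.fst g a₀)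
  haveI : QuasiCompact (pullback.snd f (pullback.fst g a₀) ≫ pullback.snd g a₀) :=
    MorphismProperty.of_isPullback (P := @QuasiCompact) (hpbX.paste_vert hpbY) inferInstance
  haveI : QuasiSeparated (pullback.snd f (pullback.fst g a₀) ≫ pullback.snd g a₀) :=
    MorphismProperty.of_isPullback (P := @QuasiSeparated) (hpbX.paste_vert hpbY) inferInstance
  obtain ⟨qY, hqY1, hY⟩ := exists_isPullback_of_fac hpbY ((FGQuot.specCone R 𝔞).π.app i₀) t hπ
    (IsPullback.of_hasPullback g t)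
  obtain ⟨qX, hqX1, hX⟩ := exists_isPullback_of_fac hpbX qY (pullback.fst g t) hqY1
    (isPullback_bcHom f g t)
  obtain ⟨j, φ, Xj, Yj, fj, gj, pY, pX, hYj, hXj, hj⟩ := exists_stage_hasRA
    (FGQuot.specDiag R 𝔞) (FGQuot.specCone R 𝔞) hc i₀
    (pullback.snd f (pullback.fst g a₀)) (pullback.snd g a₀) (bcHom f g t) (pullback.snd g t)
    qY qX hY hX h
  refine ⟨j.unop.1, j.unop.2.1, j.unop.2.2, ?_⟩
  have e : (FGQuot.specDiag R 𝔞).map φ ≫ a₀ =
      Spec.map (CommRingCat.ofHom (Ideal.Quotient.mk j.unop.1)) ≫ b := by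
    rw [ha₀, ← Category.assoc]
    congr 1
    exact FGQuot.specDiag_map_comp R 𝔞 φ
  have hYS := hYj.paste_horiz hpbY
  have hXS := hXj.paste_horiz hpbX
  exact hasRA_of_fac hYS hXS (IsPullback.of_hasPullback g _) (isPullback_bcHom f g _) (𝟙 _)
    (by rw [Category.id_comp, e]) hj

variable {I : Type u} [SmallCategory I] [IsCofiltered I] (D : I ⥤ Scheme.{u}) (c : Cone D)
  (hc : IsLimit c) [∀ (i j : I) (f : i ⟶ j), IsAffineHom (D.map f)]

include hc in
/-- descent of the existence of a relatively ample module along the base change of a cofiltered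
limit. -/
theorem exists_stage_hasRA_bc (j : I) [CompactSpace (D.obj j)] [QuasiSeparatedSpace (D.obj j)]
    {T : Scheme.{u}} (a : T ⟶ D.obj j) [QuasiCompact a] [QuasiSeparated a] {Z : Scheme.{u}}
    {q : Z ⟶ T} {h : Z ⟶ c.pt} (hZ : IsPullback q h a (c.π.app j)) (β : D.obj j ⟶ S)
    (hRA : HasRA (bcHom f g (q ≫ a ≫ β))) :
    ∃ k : Over j, HasRA (bcHom f g (bcFst D j a k ≫ a ≫ β)) := by
  have hI : ∀ {i j : I} (f : i ⟶ j), IsAffineHom (D.map f) := fun f => inferInstance
  haveI : ∀ (k l : Over j) (u : k ⟶ l), IsAffineHom ((bcDiagram D j a).map u) :=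
    fun _ _ u => inferInstance
  obtain ⟨i₀', hi₀'⟩ : ∃ i₀' : Over j, i₀' = Over.mk (𝟙 j) := ⟨_, rfl⟩
  haveI : CompactSpace (D.obj i₀'.left) := by
    rw [hi₀']
    exact (inferInstance : CompactSpace (D.obj j))
  haveI : QuasiSeparatedSpace (D.obj i₀'.left) := by
    rw [hi₀']
    exact (inferInstance : QuasiSeparatedSpace (D.obj j))
  haveI : CompactSpace ((bcDiagram D j a).obj i₀') :=
    QuasiCompact.compactSpace_of_compactSpace (pullback.snd a (D.map i₀'.hom))
  haveI : QuasiSeparatedSpace ((bcDiagram D j a).obj i₀') :=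
    quasiSeparatedSpace_of_quasiSeparated (pullback.snd a (D.map i₀'.hom))
  obtain ⟨a₀, ha₀⟩ : ∃ a₀ : (bcDiagram D j a).obj i₀' ⟶ S, a₀ = bcFst D j a i₀' ≫ a ≫ β :=
    ⟨_, rfl⟩
  obtain ⟨t, ht⟩ : ∃ t : (bcCone (D := D) (c := c) (a := a) hZ).pt ⟶ S, t = q ≫ a ≫ β :=
    ⟨_, rfl⟩
  have hπ : (bcCone (D := D) (c := c) (a := a) hZ).π.app i₀' ≫ a₀ = t := by
    rw [ha₀, ht, ← Category.assoc]
    congr 1
    exact bcπ_bcFst hZ i₀'
  rw [← ht] at hRA
  have hpbY := IsPullback.of_hasPullback g a₀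
  have hpbX := IsPullback.of_hasPullback f (pullback.fst g a₀)
  haveI : QuasiCompact (pullback.snd f (pullback.fst g a₀) ≫ pullback.snd g a₀) :=
    MorphismProperty.of_isPullback (P := @QuasiCompact) (hpbX.paste_vert hpbY) inferInstance
  haveI : QuasiSeparated (pullback.snd f (pullback.fst g a₀) ≫ pullback.snd g a₀) :=
    MorphismProperty.of_isPullback (P := @QuasiSeparated) (hpbX.paste_vert hpbY) inferInstance
  obtain ⟨qY, hqY1, hY⟩ := exists_isPullback_of_fac hpbY
    ((bcCone (D := D) (c := c) (a := a) hZ).π.app i₀') t hπ (IsPullback.of_hasPullback g t)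
  obtain ⟨qX, hqX1, hX⟩ := exists_isPullback_of_fac hpbX qY (pullback.fst g t) hqY1
    (isPullback_bcHom f g t)
  obtain ⟨k, φ, Xk, Yk, fk, gk, pY, pX, hYk, hXk, hk⟩ := exists_stage_hasRA
    (bcDiagram D j a) (bcCone (D := D) (c := c) (a := a) hZ) (isLimitBcCone hc hZ) i₀'
    (pullback.snd f (pullback.fst g a₀)) (pullback.snd g a₀) (bcHom f g t) (pullback.snd g t)
    qY qX hY hX hRA
  refine ⟨k, ?_⟩
  have e : (bcDiagram D j a).map φ ≫ a₀ = bcFst D j a k ≫ a ≫ β := by
    rw [ha₀, ← Category.assoc]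
    congr 1
    exact bcDiagram_map_bcFst φ
  have hYS := hYk.paste_horiz hpbY
  have hXS := hXk.paste_horiz hpbX
  exact hasRA_of_fac hYS hXS (IsPullback.of_hasPullback g _) (isPullback_bcHom f g _) (𝟙 _)
    (by rw [Category.id_comp, e]) hk

end Chain

section Main

variable {X Y S : Scheme.{u}} (f : X ⟶ Y) (g : Y ⟶ S) [QuasiCompact g] [QuasiSeparated g]
  [QuasiCompact (f ≫ g)] [QuasiSeparated (f ≫ g)]

/-- the locus of the base over which the morphism of fibres admits a relatively ample module is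
ind-constructible. -/
theorem isIndConstructible_locusHRA : ProCons.IsIndConstructible (locusHRA f g) := by
  apply isIndConstructible_of_forall_mem_exists
  intro s hs
  -- from the residue field to a quotient of the local ring by a finitely generated ideal
  have hs' : HasRA (bcHom f g (Spec.map (CommRingCat.ofHom (Ideal.Quotient.mk
      (IsLocalRing.maximalIdeal ↑(S.presheaf.stalk s)))) ≫ S.fromSpecStalk s)) := by
    have h1 : HasRA (MoreMor.fiberMap f g s) := hs
    rw [ConsMor.fiberMap_eq_bcHom] at h1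
    exact h1
  obtain ⟨J, hJfg, hJle, hJ⟩ := exists_fg_hasRA f g ↑(S.presheaf.stalk s)
    (IsLocalRing.maximalIdeal ↑(S.presheaf.stalk s)) (S.fromSpecStalk s) hs'
  -- a model of the closed subscheme over an affine open neighbourhood
  obtain ⟨W⟩ := (inferInstance : Nonempty (Nb S s))
  obtain ⟨hc⟩ := isLimit_nbCone S s
  have hI : ∀ {i j : Nb S s} (f : i ⟶ j), IsAffineHom ((nbDiag S s).map f) :=
    fun f => inferInstance
  have hI' : ∀ (i j : Nb S s) (f : i ⟶ j), IsAffineHom ((nbDiag S s).map f) :=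
    fun _ _ f => inferInstance
  obtain ⟨hJ', hhJ⟩ : ∃ hJ' : Spec (CommRingCat.of (↑(S.presheaf.stalk s) ⧸ J)) ⟶
      (nbCone S s).pt, hJ' = Spec.map (CommRingCat.ofHom (Ideal.Quotient.mk J)) := ⟨_, rfl⟩
  haveI : LocallyOfFinitePresentation hJ' := by
    rw [hhJ]
    exact lfp_specMap_mk J hJfg
  haveI : IsClosedImmersion hJ' := by
    rw [hhJ]
    exact IsClosedImmersion.spec_of_surjective _ Ideal.Quotient.mk_surjective
  obtain ⟨j, -, M, hM⟩ := exists_model_of_property_over hc W @IsClosedImmersion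
    (fun {i₁ X₀} f₀ _ _ _ _ _ hs =>
      Groth.Agent.Helper7.LimGen.exists_stage_isClosedImmersion' (nbDiag S s) (nbCone S s) hc f₀
        (𝟙 _) hs) hJ' inferInstance
  haveI := M.lfp
  haveI := M.qc
  haveI := M.qs
  haveI hMcl : IsClosedImmersion M.zj := hM
  have e1 : M.q ≫ M.zj ≫ j.1.ι =
      Spec.map (CommRingCat.ofHom (Ideal.Quotient.mk J)) ≫ S.fromSpecStalk s := by
    rw [← Category.assoc, M.isPullback.w, hhJ, Category.assoc, nbCone_π_ι]
  rw [← e1] at hJ
  obtain ⟨k, hk⟩ := exists_stage_hasRA_bc f g (nbDiag S s) (nbCone S s) hc j M.zj M.isPullback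
    j.1.ι hJ
  -- the locally closed subscheme
  haveI hopen : IsOpenImmersion ((nbDiag S s).map k.hom) := by
    show IsOpenImmersion (S.homOfLE (Subtype.coe_le_coe.mpr (leOfHom k.hom)))
    infer_instance
  haveI : IsOpenImmersion (bcFst (nbDiag S s) j M.zj k) := by
    unfold bcFst
    infer_instance
  haveI : LocallyOfFinitePresentation (bcFst (nbDiag S s) j M.zj k ≫ M.zj ≫ j.1.ι) :=
    inferInstance
  haveI : SurjectiveOnStalks (bcFst (nbDiag S s) j M.zj k ≫ M.zj ≫ j.1.ι) := inferInstance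
  refine ⟨(bcFst (nbDiag S s) j M.zj k ≫ M.zj ≫ j.1.ι) '' Set.univ,
    isIndConstructible_image _
      (isIndConstructible_of_isLocallyConstructible IsLocallyConstructible.univ), ?_, ?_⟩
  · -- the point `s` lies in the image
    have e2 : CommRingCat.ofHom (Ideal.Quotient.mk J) ≫
        CommRingCat.ofHom (Ideal.Quotient.factor hJle) = S.residue s := by
      ext x
      rfl
    have hu : (Spec.map (CommRingCat.ofHom (Ideal.Quotient.factor hJle)) ≫
        bcπ (D := nbDiag S s) (c := nbCone S s) (a := M.zj) M.isPullback k) ≫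
        (bcFst (nbDiag S s) j M.zj k ≫ M.zj ≫ j.1.ι) = S.fromSpecResidueField s := by
      rw [Category.assoc, ← Category.assoc (bcπ (D := nbDiag S s) (c := nbCone S s) (a := M.zj)
        M.isPullback k), bcπ_bcFst, e1, ← Category.assoc, ← Spec.map_comp, e2]
      rfl
    obtain ⟨y₀⟩ := (inferInstance : Nonempty (Spec (S.residueField s)))
    refine ⟨(Spec.map (CommRingCat.ofHom (Ideal.Quotient.factor hJle)) ≫
        bcπ (D := nbDiag S s) (c := nbCone S s) (a := M.zj) M.isPullback k) y₀, trivial, ?_⟩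
    rw [← Scheme.Hom.comp_apply, hu]
    exact Scheme.fromSpecResidueField_apply s y₀
  · -- the image lies in the locus
    rintro _ ⟨z, -, rfl⟩
    haveI := isIso_residueFieldMap_of_surjectiveOnStalks
      (bcFst (nbDiag S s) j M.zj k ≫ M.zj ≫ j.1.ι) z
    exact mem_locusHRA_of_isIso (IsPullback.of_hasPullback g _) (isPullback_bcHom f g _) z
      (mem_locusHRA_of_hasRA _ _ hk z)

/-- the statement in the form of the milestone. -/
theorem isIndConstructible_setOf_fibre_isQuasiProjective {X Y S : Scheme.{u}} (f : X ⟶ Y)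
    (g : Y ⟶ S) [LocallyOfFinitePresentation g] [QuasiCompact g] [QuasiSeparated g]
    [LocallyOfFinitePresentation (f ≫ g)] [QuasiCompact (f ≫ g)] [QuasiSeparated (f ≫ g)] :
    ProCons.IsIndConstructible {s : S |
      RelProj.IsQuasiProjective
        (pullback.lift (pullback.fst (f ≫ g) (S.fromSpecResidueField s) ≫ f)
          (pullback.snd (f ≫ g) (S.fromSpecResidueField s))
          ((Category.assoc _ _ _).trans pullback.condition) :
        pullback (f ≫ g) (S.fromSpecResidueField s) ⟶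
          pullback g (S.fromSpecResidueField s))} := by
  have e : {s : S |
      RelProj.IsQuasiProjective
        (pullback.lift (pullback.fst (f ≫ g) (S.fromSpecResidueField s) ≫ f)
          (pullback.snd (f ≫ g) (S.fromSpecResidueField s))
          ((Category.assoc _ _ _).trans pullback.condition) :
        pullback (f ≫ g) (S.fromSpecResidueField s) ⟶
          pullback g (S.fromSpecResidueField s))} = locusHRA f g := by
    ext s
    constructor
    · intro h
      have h' : RelProj.IsQuasiProjective (MoreMor.fiberMap f g s) := h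
      exact h'.2.2
    · intro h
      have hft : LocallyOfFiniteType f := locallyOfFiniteType_of_comp f g
      have hqc : QuasiCompact f := QuasiCompact.of_comp f g
      have h' : RelProj.IsQuasiProjective (MoreMor.fiberMap f g s) :=
        ⟨MorphismProperty.of_isPullback (P := @LocallyOfFiniteType)
          (ConsMor.isPullback_fiberMap f g s) hft,
          MorphismProperty.of_isPullback (P := @QuasiCompact)
          (ConsMor.isPullback_fiberMap f g s) hqc, h⟩
      exact h'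
  rw [e]
  exact isIndConstructible_locusHRA f g

end Main

end Groth.Agent.Helper7.AmpleCons
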