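import Mathlib
import Groth.Prelude.Def_LCI2
import Groth.Prelude.Def_ProCons
import Groth.Prelude.Def_RelProj
import Groth.Agent.Lib.Helper7.AmpleCons.QP
import Groth.Agent.Lib.Helper7.FibProper.Fin
import Groth.Agent.Lib.Helper1.VT24
import Groth.Agent.Lib.Helper1.ProjProper

set_option linter.style.haveILetI false
set_option linter.unusedVariables false
set_option linter.unusedSectionVars false
set_option autoImplicit false
set_option backward.isDefEq.respectTransparency.types false
set_option backward.isDefEq.respectTransparency false
set_option synthInstance.maxHeartbeats 400000
set_option maxHeartbeats 1600000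

universe u

/-! helper7: ind-constructibility of the locus where the morphism of fibres is projective: intersection of the quasi-projective locus and the proper locus -/

open CategoryTheory CategoryTheory.Limits AlgebraicGeometry Opposite TopologicalSpace Topology

namespace Groth.Agent.Helper7.AmpleCons

open Groth.Agent.Helper7.ProConsLib

/-- the intersection of two ind-constructible subsets of a scheme is ind-constructible. -/
theorem isIndConstructible_inter {S : Scheme.{u}} {E F : Set S}
    (hE : ProCons.IsIndConstructible E) (hF : ProCons.IsIndConstructible F) :
    ProCons.IsIndConstructible (E ∩ F) := by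
  apply isIndConstructible_of_forall_exists
  intro x
  obtain ⟨U, hxU⟩ := exists_affineOpen_mem S x
  have hs := spectralSpace_affineOpen S U
  refine ⟨((U : S.Opens) : Set S), (U : S.Opens).2, hs, hxU, ?_⟩
  have h1 := isOpen_cons_of_isIndConstructible
    (isIndConstructible_preimage_val hE (U : S.Opens).2)
  have h2 := isOpen_cons_of_isIndConstructible
    (isIndConstructible_preimage_val hF (U : S.Opens).2)
  rw [Set.preimage_inter]
  exact @IsOpen.inter _ (constructibleTopology ((U : S.Opens) : Set S)) _ _ h1 h2

/-- the locus where the morphism of fibres is projective is ind-constructible. -/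
theorem isIndConstructible_setOf_fibre_isProjective {X Y S : Scheme.{u}} (f : X ⟶ Y)
    (g : Y ⟶ S) [LocallyOfFinitePresentation g] [QuasiCompact g] [QuasiSeparated g]
    [LocallyOfFinitePresentation (f ≫ g)] [QuasiCompact (f ≫ g)] [QuasiSeparated (f ≫ g)] :
    ProCons.IsIndConstructible {s : S |
      RelProj.IsProjective
        (pullback.lift (pullback.fst (f ≫ g) (S.fromSpecResidueField s) ≫ f)
          (pullback.snd (f ≫ g) (S.fromSpecResidueField s))
          ((Category.assoc _ _ _).trans pullback.condition) :
        pullback (f ≫ g) (S.fromSpecResidueField s) ⟶
          pullback g (S.fromSpecResidueField s))} := by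
  have e : {s : S |
      RelProj.IsProjective
        (pullback.lift (pullback.fst (f ≫ g) (S.fromSpecResidueField s) ≫ f)
          (pullback.snd (f ≫ g) (S.fromSpecResidueField s))
          ((Category.assoc _ _ _).trans pullback.condition) :
        pullback (f ≫ g) (S.fromSpecResidueField s) ⟶
          pullback g (S.fromSpecResidueField s))} =
      {s : S |
      RelProj.IsQuasiProjective
        (pullback.lift (pullback.fst (f ≫ g) (S.fromSpecResidueField s) ≫ f)
          (pullback.snd (f ≫ g) (S.fromSpecResidueField s))
          ((Category.assoc _ _ _).trans pullback.condition) :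
        pullback (f ≫ g) (S.fromSpecResidueField s) ⟶
          pullback g (S.fromSpecResidueField s))} ∩
      {s : S |
      IsProper
        (pullback.lift (pullback.fst (f ≫ g) (S.fromSpecResidueField s) ≫ f)
          (pullback.snd (f ≫ g) (S.fromSpecResidueField s))
          ((Category.assoc _ _ _).trans pullback.condition) :
        pullback (f ≫ g) (S.fromSpecResidueField s) ⟶
          pullback g (S.fromSpecResidueField s))} := by
    ext s
    constructor
    · intro h
      exact Groth.Agent.Helper1.ProjProper.main4418 _ h
    · rintro ⟨h1, h2⟩
      haveI hp : IsProper
        (pullback.lift (pullback.fst (f ≫ g) (S.fromSpecResidueField s) ≫ f)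
          (pullback.snd (f ≫ g) (S.fromSpecResidueField s))
          ((Category.assoc _ _ _).trans pullback.condition) :
        pullback (f ≫ g) (S.fromSpecResidueField s) ⟶
          pullback g (S.fromSpecResidueField s)) := h2
      haveI hcs : CompactSpace ↥(pullback g (S.fromSpecResidueField s)) :=
        QuasiCompact.compactSpace_of_compactSpace (pullback.snd g (S.fromSpecResidueField s))
      haveI hqs : QuasiSeparatedSpace ↥(pullback g (S.fromSpecResidueField s)) :=
        quasiSeparatedSpace_of_quasiSeparated (pullback.snd g (S.fromSpecResidueField s))
      exact Groth.Agent.Helper1.VT.isProjective_of_isProper_of_isQuasiProjective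
        (Or.inl ⟨hcs, hqs⟩) _ h1
  rw [e]
  exact isIndConstructible_inter (isIndConstructible_setOf_fibre_isQuasiProjective f g)
    (isIndConstructible_of_isLocallyConstructible
      (Groth.Agent.Helper7.FibProper.isLocallyConstructible_setOf_isProper f g))

end Groth.Agent.Helper7.AmpleCons
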