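import Mathlib
import Groth.Agent.Lib.Helper7.AmpleCons.FibCrit

set_option linter.style.haveILetI false
set_option linter.unusedVariables false
set_option linter.unusedSectionVars false
set_option autoImplicit false
set_option backward.isDefEq.respectTransparency.types false
set_option backward.isDefEq.respectTransparency false
set_option synthInstance.maxHeartbeats 400000
set_option maxHeartbeats 1600000

universe u

/-! helper7: the relatively ample locus of a proper morphism in a family of finite presentation is locally constructible (EGA IV 9.6.2): openness of the fibrewise ample locus over a Noetherian base, description of the locus as the complement of an image, Chevalley, reduction to a Noetherian model with proper morphism -/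

open CategoryTheory CategoryTheory.Limits AlgebraicGeometry Opposite TopologicalSpace Topology

namespace Groth.Agent.Helper7.AmpleCons

open Groth.Agent.Helper1 Groth.Agent.Helper7.ConsMod Groth.Agent.Helper7.LimBC
  Groth.Agent.Helper7.GenStage Groth.Agent.Helper7.LimStage Groth.Agent.Helper7.ConsPair
  Groth.Agent.Helper7.StalkLim Groth.Agent.Helper7.LimDesc Groth.Agent.Helper7.ProConsLib
  Groth.Agent.Helper7

section Noeth

/-- for a proper morphism to a locally Noetherian scheme, the set of points of the base over which
an invertible module is ample on the fibre is open. -/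
theorem isOpen_setOf_isAmple_fiber {X Y : Scheme.{u}} (f : X ⟶ Y) [IsProper f]
    [IsLocallyNoetherian Y] (L : X.Modules) (hL : PicF.IsInvertible L) :
    IsOpen {y : Y | CohB1.IsAmple ((Scheme.Modules.pullback (f.fiberι y)).obj L)} := by
  rw [isOpen_iff_forall_mem_open]
  intro y hy
  obtain ⟨V, hV, hyV, hamp⟩ := FibAmple.exists_affine_nbhd_isAmple_of_fibre f L hL y hy
  refine ⟨V, ?_, V.2, hyV⟩
  intro y₁ hy₁
  haveI : IsAffine (↑V : Scheme.{u}) := hV
  have hRA : RelAmple.IsRelAmple (f ∣_ V) (L.restrict (f ⁻¹ᵁ V).ι) :=
    (Groth.Agent.S4381.result (f ∣_ V) _).mpr hamp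
  have h1 := isAmple_fiber_of_isRelAmple (f ∣_ V) _ hRA ⟨y₁, hy₁⟩
  exact (isAmple_fiber_iff_of_isPullback (isPullback_morphismRestrict f V).flip L hL _
    ((Scheme.Modules.restrictFunctorIsoPullback (f ⁻¹ᵁ V).ι).app L) ⟨y₁, hy₁⟩).mp h1

/-- for a proper morphism, the relatively ample locus is the complement of the image of the
locus where the module is not ample on the fibre. -/
theorem locusRA_eq_of_isProper {X Y S : Scheme.{u}} (f : X ⟶ Y) (g : Y ⟶ S) [IsProper f]
    [LocallyOfFiniteType g] (L : X.Modules) (hL : PicF.IsInvertible L) :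
    locusRA f g L =
      (g '' {y : Y | CohB1.IsAmple ((Scheme.Modules.pullback (f.fiberι y)).obj L)}ᶜ)ᶜ := by
  ext s
  have hsq := ConsMor.isPullback_fiberMap f g s
  haveI : IsProper (MoreMor.fiberMap f g s) :=
    MorphismProperty.of_isPullback (P := @IsProper) hsq inferInstance
  haveI : LocallyOfFiniteType (g.fiberToSpecResidueField s) :=
    MorphismProperty.of_isPullback (P := @LocallyOfFiniteType)
      (IsPullback.of_hasPullback g (S.fromSpecResidueField s)) inferInstance
  haveI : IsLocallyNoetherian (g.fiber s) :=
    LocallyOfFiniteType.isLocallyNoetherian (g.fiberToSpecResidueField s)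
  have hLs := PullGen.isInvertible_pullback ((f ≫ g).fiberι s) hL
  have hbc : ∀ y' : ↥(g.fiber s), CohB1.IsAmple ((Scheme.Modules.pullback
      ((MoreMor.fiberMap f g s).fiberι y')).obj
        ((Scheme.Modules.pullback ((f ≫ g).fiberι s)).obj L)) ↔
      CohB1.IsAmple ((Scheme.Modules.pullback (f.fiberι (g.fiberι s y'))).obj L) :=
    fun y' => isAmple_fiber_iff_of_isPullback hsq L hL _ (Iso.refl _) y'
  have hr := g.range_fiberι s
  constructor
  · intro hs
    have hs' : RelAmple.IsRelAmple (MoreMor.fiberMap f g s)
        ((Scheme.Modules.pullback ((f ≫ g).fiberι s)).obj L) := hs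
    rintro ⟨y, hy, hgy⟩
    have hy' : y ∈ Set.range (g.fiberι s) := by
      rw [hr]
      exact hgy
    obtain ⟨y', rfl⟩ := hy'
    apply hy
    exact (hbc y').mp (isAmple_fiber_of_isRelAmple _ _ hs' y')
  · intro hs
    show RelAmple.IsRelAmple (MoreMor.fiberMap f g s)
      ((Scheme.Modules.pullback ((f ≫ g).fiberι s)).obj L)
    apply isRelAmple_of_forall_fiber_noeth (MoreMor.fiberMap f g s) _ hLs
    intro y'
    rw [hbc y']
    by_contra hn
    apply hs
    refine ⟨g.fiberι s y', hn, ?_⟩
    have h2 : g.fiberι s y' ∈ g ⁻¹' {s} := by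
      rw [← hr]
      exact ⟨y', rfl⟩
    exact h2

set_option backward.isDefEq.respectTransparency false in
/-- the relatively ample locus of a proper morphism over a Noetherian affine base is
constructible. -/
theorem isConstructible_locusRA_noeth_proper (A : Type u) [CommRing A] [IsNoetherianRing A]
    {X Y : Scheme.{u}} (f : X ⟶ Y) (g : Y ⟶ Spec (CommRingCat.of A)) [LocallyOfFiniteType g]
    [QuasiCompact g] [IsProper f] (L : X.Modules) (hL : PicF.IsInvertible L) :
    IsConstructible (locusRA f g L) := by
  haveI : IsNoetherian Y := isNoetherian_of_finiteType g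
  rw [locusRA_eq_of_isProper f g L hL]
  have hU : IsOpen {y : Y | CohB1.IsAmple ((Scheme.Modules.pullback (f.fiberι y)).obj L)} :=
    isOpen_setOf_isAmple_fiber f L hL
  have hUc : IsConstructible
      {y : Y | CohB1.IsAmple ((Scheme.Modules.pullback (f.fiberι y)).obj L)} :=
    IsCompact.isConstructible (TopologicalSpace.NoetherianSpace.isCompact _) hU
  exact (g.isConstructible_image hUc.compl).compl

end Noeth

section Main

set_option backward.isDefEq.respectTransparency false in
/-- **the relatively ample locus of a proper morphism in a family of finite presentation is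
locally constructible** (EGA IV 9.6.2). -/
theorem isLocallyConstructible_locusRA_proper {X Y S : Scheme.{u}} (f : X ⟶ Y) (g : Y ⟶ S)
    [LocallyOfFinitePresentation g] [QuasiCompact g] [QuasiSeparated g]
    [LocallyOfFinitePresentation (f ≫ g)] [QuasiCompact (f ≫ g)] [QuasiSeparated (f ≫ g)]
    [IsProper f] (L : X.Modules) (hL : PicF.IsInvertible L) :
    IsLocallyConstructible (locusRA f g L) := by
  apply isLocallyConstructible_of_forall_affineOpen
  intro V hV
  have hY := IsPullback.of_hasPullback g hV.fromSpec
  have hX := IsPullback.of_hasPullback f (pullback.fst g hV.fromSpec)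
  obtain ⟨i1, i2, i3, i4, i5, i6⟩ := ConsMor.fp_comp_of_isPullback hY hX
  rw [← locusRA_eq_preimage f g hV.fromSpec _ _ _ _ hY hX L hL _ (Iso.refl _)]
  obtain ⟨A₀, _, _, π, X₀, Y₀, f₀, g₀, qX, qY, L₀, hg₀ft, hg₀qc, hf₀, hY₀, hX₀, hL₀, ⟨e⟩⟩ :=
    exists_noetherian_model_proper_inv ↑Γ(S, V) (pullback.snd f (pullback.fst g hV.fromSpec))
      (pullback.snd g hV.fromSpec) _
      (PullGen.isInvertible_pullback (pullback.fst f (pullback.fst g hV.fromSpec)) hL)
  haveI := hg₀ft
  haveI := hg₀qc
  haveI := hf₀
  rw [locusRA_eq_preimage f₀ g₀ π _ _ qX qY hY₀ hX₀ L₀ hL₀ _ e]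
  exact isLocallyConstructible_preimage π
    (isConstructible_locusRA_noeth_proper A₀ f₀ g₀ L₀ hL₀).isLocallyConstructible

/-- the statement in the form of the milestone. -/
theorem isLocallyConstructible_setOf_fibre_isRelAmple {X Y S : Scheme.{u}} (f : X ⟶ Y)
    (g : Y ⟶ S) [LocallyOfFinitePresentation g] [QuasiCompact g] [QuasiSeparated g]
    [LocallyOfFinitePresentation (f ≫ g)] [QuasiCompact (f ≫ g)] [QuasiSeparated (f ≫ g)]
    [IsProper f] (L : X.Modules) (hL : PicF.IsInvertible L) :
    IsLocallyConstructible {s : S |
      RelAmple.IsRelAmple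
        (pullback.lift (pullback.fst (f ≫ g) (S.fromSpecResidueField s) ≫ f)
          (pullback.snd (f ≫ g) (S.fromSpecResidueField s))
          ((Category.assoc _ _ _).trans pullback.condition) :
        pullback (f ≫ g) (S.fromSpecResidueField s) ⟶ pullback g (S.fromSpecResidueField s))
        ((Scheme.Modules.pullback (pullback.fst (f ≫ g) (S.fromSpecResidueField s))).obj L)} :=
  isLocallyConstructible_locusRA_proper f g L hL

end Main

end Groth.Agent.Helper7.AmpleCons
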